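import Cfsg.Agent.CZFact.Descent
import Cfsg.Agent.GenDih.RankOneCase
import Cfsg.Agent.S0265
import Cfsg.Agent.Linear.SmallIso

/-!
# Identification
-/

set_option autoImplicit false
set_option linter.style.haveILetI false
set_option linter.unusedSectionVars false
set_option maxHeartbeats 1000000

namespace Cfsg.Agent.CZFact

open Subgroup MulAction

universe u

/-- The properties of `PGL₂(p)` used in the reduction. -/
structure Data (H : Type u) [Group H] (p : ℕ) : Prop where
  card : Nat.card H = (p + 1) * p * (p - 1)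
  ord : ∀ x : H, orderOf x ≤ p + 1
  zb : ∀ U : Subgroup H, IsZGroup U → Nat.card U ≤ p * (p - 1)
  low : ∃ L : Subgroup H, L.Normal ∧ ¬ Group.IsSolvable L ∧ Nat.card H ≤ 2 * Nat.card L ∧
    (∀ N : Subgroup H, N.Normal → N ≠ ⊥ → L ≤ N) ∧ Nat.card (Sylow p L) = p + 1

/-- `X` is `PGL₂(p)`. -/
def IsPGLp (X : Type u) [Group X] : Prop :=
  ∃ p : ℕ, p.Prime ∧ 3 < p ∧ Data X p ∧ ∃ (F : Type) (_ : Field F) (_ : Fintype F),
    Fintype.card F = p ∧ Nonempty (X ≃* GL (Fin 2) F ⧸ Subgroup.center (GL (Fin 2) F))

theorem Data.of_equiv {G H : Type u} [Group G] [Group H] [Finite G] {p : ℕ} [Fact p.Prime]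
    (e : G ≃* H) (hd : Data G p) : Data H p where
  card := by rw [← Nat.card_congr e.toEquiv]; exact hd.card
  ord x := by rw [← e.apply_symm_apply x, MulEquiv.orderOf_eq]; exact hd.ord _
  zb U hU := by
    haveI := hU
    have h1 := hd.zb (U.map e.symm.toMonoidHom)
      (IsZGroup.of_injective (f := ((U.equivMapOfInjective e.symm.toMonoidHom e.symm.injective).symm).toMonoidHom)
        (MulEquiv.injective _))
    rwa [Subgroup.card_map_of_injective e.symm.injective] at h1
  low := by
    obtain ⟨L, hL1, hL2, hL3, hL4, hL5⟩ := hd.low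
    haveI : Finite H := Finite.of_equiv G e.toEquiv
    let eL : L ≃* L.map e.toMonoidHom := L.equivMapOfInjective e.toMonoidHom e.injective
    refine ⟨L.map e.toMonoidHom, hL1.map e.toMonoidHom e.surjective, fun h => hL2 ?_, ?_, ?_, ?_⟩
    · haveI := h
      exact Group.isSolvable_of_surjective (f := eL.symm.toMonoidHom) eL.symm.surjective
    · rw [Subgroup.card_map_of_injective e.injective, ← Nat.card_congr e.toEquiv]; exact hL3
    · intro N hN hne
      rw [Subgroup.map_le_iff_le_comap]
      refine hL4 _ (hN.comap _) fun h => hne ?_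
      rw [← Subgroup.map_comap_eq_self_of_surjective (f := e.toMonoidHom) e.surjective N, h,
        Subgroup.map_bot]
    · rw [← hL5]
      let P : Sylow p L := default
      let P2 : Sylow p (L.map e.toMonoidHom) := P.mapSurjective (f := eL.toMonoidHom) eL.surjective
      rw [P2.card_eq_index_normalizer, P.card_eq_index_normalizer]
      show (normalizer (((P : Subgroup L).map eL.toMonoidHom : Subgroup (L.map e.toMonoidHom)) :
        Set (L.map e.toMonoidHom))).index = (normalizer ((P : Subgroup L) : Set L)).index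
      rw [← Subgroup.map_equiv_normalizer_eq]
      exact Subgroup.index_map_of_bijective eL.bijective _

theorem cube_le {a b : ℕ} (h : a ≤ b) : a * (a + 1) * (a + 2) ≤ b * (b + 1) * (b + 2) :=
  Nat.mul_le_mul (Nat.mul_le_mul h (by omega)) (by omega)

theorem cube_lt {a b : ℕ} (h : a < b) : a * (a + 1) * (a + 2) < b * (b + 1) * (b + 2) := by
  have h1 := cube_le (show a + 1 ≤ b from h)
  have h2 : a * (a + 1) * (a + 2) < (a + 1) * (a + 1 + 1) * (a + 1 + 2) := by
    have : 0 < (a + 1) * (a + 2) := by positivity
    nlinarith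
  omega

theorem cube_inj {a b : ℕ} (h : a * (a + 1) * (a + 2) = b * (b + 1) * (b + 2)) : a = b := by
  rcases lt_trichotomy a b with h1 | h1 | h1
  · exact absurd h (cube_lt h1).ne
  · exact h1
  · exact absurd h (cube_lt h1).ne'

section Final

variable {X : Type u} [Group X] [Finite X] {Ω : Type u} [MulAction X Ω] [Finite Ω]

theorem Hyp.isPGLp (h : Hyp X Ω) (hns : ¬ Group.IsSolvable X) : IsPGLp X := by
  classical
  obtain ⟨α⟩ : Nonempty Ω := (Nat.card_pos_iff.1 (by have := h.large; omega)).1
  obtain ⟨β, t, e, T, C, Q, c, -⟩ := h.exists_cfg α 1 (one_mul 1) (one_smul _ _)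
  have hb : Bound2 X Ω := bound2_all _ X Ω h rfl
  have htα := c.T_fixl t c.t_mem
  have htβ := c.T_fixr t c.t_mem
  obtain ⟨hZ, hDc, hp⟩ := small_count h hb c.ne c.t_ne c.t_sq htα htβ c.e_sq c.e_swap c.e_free
  set n := Nat.card Ω with hn
  have hl := h.large
  set p := n - 1 with hp'
  haveI : Fact p.Prime := ⟨hp⟩
  have hS : ∀ γ : Ω, Nat.card (stabilizer X γ) = p * (p - 1) := by
    intro γ
    have h1 := h.card_stabilizer γ
    have h2 := h.card_stabilizer α
    have h3 := h.card_stab_two c.ne
    rw [hDc] at h3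
    have : Nat.card (stabilizer X γ) = Nat.card (stabilizer X α) :=
      Nat.eq_of_mul_eq_mul_right (by omega : 0 < n) (h1.trans h2.symm)
    rw [this, ← h3, hp', show n - 1 - 1 = n - 2 by omega, mul_comm]
  have hpair : ∀ γ δ : Ω, γ ≠ δ → Nat.card (pairStab (X := X) γ δ) = p - 1 := by
    intro γ δ hγδ
    have h3 := h.card_stab_two hγδ
    rw [hS, ← hn, ← hp', mul_comm p] at h3
    exact Nat.eq_of_mul_eq_mul_right hp.pos h3
  have hX : Nat.card X = (p + 1) * p * (p - 1) := by
    rw [← h.card_stabilizer α, hS, mul_comm, ← hn, show p + 1 = n by omega, mul_assoc]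
  -- `e` inverts the two-point stabiliser
  haveI hDcyc : IsCyclic (pairStab α β : Subgroup X) := h.isCyclic_two c.ne
  have hcommD : ∀ x ∈ pairStab (X := X) α β, ∀ y ∈ pairStab (X := X) α β, x * y = y * x :=
    fun x hx y hy => h.two_comm c.ne (mem_two.1 hx).1 (mem_two.1 hx).2 (mem_two.1 hy).1 (mem_two.1 hy).2
  have hfixZ : ∀ x ∈ pairStab (X := X) α β, e * x * e = x → x = 1 ∨ x = t := fun x hx hxe =>
    hZ x hx (by calc x * e = e * x * e * e := by rw [hxe]
                  _ = e * x := by rw [mul_assoc (e * x), c.e_sq, mul_one])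
  have hinv : ∀ x ∈ pairStab (X := X) α β, x * (e * x * e) = 1 := by
    intro x hx
    obtain ⟨u, w, hu, hw, huw, hu2, hwo⟩ := split x
    have huD := zpowers_le.2 hx hu
    have hwD := zpowers_le.2 hx hw
    have huT := c.mem_T h huD hu2
    have hN : ∀ y ∈ pairStab (X := X) α β, y * (e * y * e) = 1 ∨ y * (e * y * e) = t := by
      intro y hy
      have hy' := conj_mem_two c.e_sq c.e_swap hy
      refine hfixZ _ (mul_mem hy hy') ?_
      calc e * (y * (e * y * e)) * e = (e * y * e) * y * (e * e) := by group
        _ = y * (e * y * e) := by rw [c.e_sq, mul_one, hcommD _ hy' _ hy]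
    have hNw : w * (e * w * e) = 1 := by
      refine (hN w hwD).resolve_right fun h1 => c.t_ne (eq_one_of_pows (k := 1) hwo ?_ ?_)
      · rw [← h1, (Commute.mul_pow (hcommD _ hwD _ (conj_mem_two c.e_sq c.e_swap hwD)))]
        rw [pow_orderOf_eq_one, one_mul, show e * w * e = e * w * e⁻¹ by rw [sq_one_inv c.e_sq],
          conj_pow, pow_orderOf_eq_one]
        group
      · rw [pow_one, pow_two, c.t_sq]
    have hNu : u * (e * u * e) = 1 := by
      rcases c.dichotomy h with h1 | h1
      · rw [h1 u huT]
        rcases hfixZ u huD (h1 u huT) with rfl | rfl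
        · exact one_mul 1
        · exact c.t_sq
      · exact h1 u huT
    calc x * (e * x * e) = u * (w * (e * u * e)) * (e * w * e) := by
          rw [huw]
          calc u * w * (e * (u * w) * e) = u * w * (e * u * (e * e) * w * e) := by rw [c.e_sq, mul_one]; group
            _ = _ := by group
      _ = u * (e * u * e) * (w * (e * w * e)) := by
          rw [hcommD w hwD _ (conj_mem_two c.e_sq c.e_swap huD)]; group
      _ = 1 := by rw [hNu, hNw, one_mul]
  have hswap : ∀ s ∈ centralizer ({t} : Set X), s ∉ pairStab (X := X) α β → s • α = β ∧ s • β = α := by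
    intro s hs hsD
    have hst := mem_centralizer_singleton_iff.1 hs
    have hsα : s • α = β := by
      rcases fix_cases h hb c.ne c.t_ne c.t_sq htα htβ (Hyp.cent_fix hst htα) with h1 | h1
      · exact absurd (mem_two.2 ⟨h1, cent_fix_right h hb c.ne c.t_ne c.t_sq htα htβ hst h1⟩) hsD
      · exact h1
    refine ⟨hsα, ?_⟩
    rcases fix_cases h hb c.ne c.t_ne c.t_sq htα htβ (Hyp.cent_fix hst htβ) with h1 | h1
    · exact h1
    · exact absurd (MulAction.injective s (h1.trans hsα.symm)) c.ne.symm
  have hout : ∀ s : X, s • α = β → s • β = α →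
      s * s = 1 ∧ ∀ a ∈ pairStab (X := X) α β, s * a * s⁻¹ = a⁻¹ := by
    intro s hsα hsβ
    have hx : e * s ∈ pairStab (X := X) α β := mem_two.2
      ⟨by rw [mul_smul, hsα, swap_right c.e_sq c.e_swap], by rw [mul_smul, hsβ, c.e_swap]⟩
    set x := e * s with hxd
    have hs : s = e * x := by rw [hxd, ← mul_assoc, c.e_sq, one_mul]
    refine ⟨?_, fun a ha => ?_⟩
    · calc s * s = (e * x * e) * x := by rw [hs]; group
        _ = x * (e * x * e) := hcommD _ (conj_mem_two c.e_sq c.e_swap hx) _ hx
        _ = 1 := hinv x hx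
    · calc s * a * s⁻¹ = e * (x * a) * x⁻¹ * e⁻¹ := by rw [hs]; group
        _ = e * (a * x) * x⁻¹ * e := by rw [hcommD x hx a ha, sq_one_inv c.e_sq]
        _ = e * a * e := by group
        _ = a⁻¹ := eq_inv_of_mul_eq_one_right (hinv a ha)
  have hgdc : GenDih.GDC t (pairStab α β : Subgroup X) :=
    { inv := orderOf_eq_prime (by rw [pow_two, c.t_sq]) c.t_ne
      le := fun x hx => mem_centralizer_singleton_iff.2 (hcommD x hx t (mem_two.2 ⟨htα, htβ⟩))
      mem := mem_two.2 ⟨htα, htβ⟩
      comm := hcommD
      unique := fun a ha ha2 => (em (a = 1)).imp_right fun hne =>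
        cyclic_unique_inv hDcyc ha (mem_two.2 ⟨htα, htβ⟩) hne c.t_ne ha2 c.t_sq
      out := fun s hs hsD => hout s (hswap s hs hsD).1 (hswap s hs hsD).2
      mul_mem := fun a ha b hb' haD hbD => by
        obtain ⟨h1, h2⟩ := hswap a ha haD
        obtain ⟨h3, h4⟩ := hswap b hb' hbD
        exact mem_two.2 ⟨by rw [mul_smul, h3, h2], by rw [mul_smul, h4, h1]⟩
      proper := ⟨e, mem_centralizer_singleton_iff.2 c.te.symm, fun he =>
        c.e_free α (mem_two.1 he).1⟩ }
  obtain ⟨F, hF, hFf, hq3, hiso⟩ :=
    GenDih.isPslPgl_of_gdc hgdc (fun N hN ho => h.normal_odd_eq_bot hN ho) hns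
  set q := Fintype.card F with hqdef
  have hpodd : Odd p := by
    obtain ⟨r, hr⟩ := h.even
    exact ⟨r - 1, by omega⟩
  have hSL : Nat.card (Matrix.SpecialLinearGroup (Fin 2) F) = q * (q - 1) * (q + 1) :=
    Linear.card_SL_two
  obtain ⟨hqp, hpgl⟩ : q = p ∧ Nonempty (X ≃* GL (Fin 2) F ⧸ Subgroup.center (GL (Fin 2) F)) := by
    obtain ⟨p', hp2⟩ : ∃ p', p = p' + 1 := ⟨p - 1, by have := hp.two_le; omega⟩
    obtain ⟨q', hq2⟩ : ∃ q', q = q' + 1 := ⟨q - 1, by omega⟩
    rcases hiso with ⟨⟨i⟩⟩ | ⟨⟨i⟩⟩
    · exfalso
      have hc := Nat.card_congr i.toEquiv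
      rw [hX] at hc
      rcases Nat.even_or_odd q with hev | hodd
      · rw [Linear.card_PSL_two_of_even hev, hp2, ← hqdef, hq2] at hc
        simp only [Nat.add_sub_cancel] at hc
        have heq : p' = q' := cube_inj (by linarith)
        rw [← heq, ← hp2] at hq2
        exact Nat.not_even_iff_odd.2 hpodd (hq2 ▸ hev)
      · have hc2 := Linear.card_PSL_two_of_odd (F := F) hodd
        rw [← hc] at hc2
        rw [← hqdef] at hc2
        have hlt : p < q := by
          rw [hp2, hq2] at hc2 ⊢
          simp only [Nat.add_sub_cancel] at hc2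
          by_contra hle
          push Not at hle
          have h1 : q' ≤ p' := by omega
          have h5 := cube_le h1
          have h6 : 0 < (p' + 1 + 1) * (p' + 1) * p' := by
            have : 0 < p' := by omega
            positivity
          linarith
        have hdvd : p ∣ q * (q - 1) * (q + 1) := by
          have : (p : ℕ) ∣ 2 * ((p + 1) * p * (p - 1)) := ⟨2 * ((p + 1) * (p - 1)), by ring⟩
          rw [hc2] at this
          convert this using 1
        have h2p : 2 * p ≤ q + 1 := by
          obtain ⟨r, hr⟩ := hpodd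
          obtain ⟨s, hs⟩ := hodd
          have key : ∀ m, p ∣ m → p < m + 1 → m ≠ p → 2 * p ≤ m := by
            rintro m ⟨k, rfl⟩ h1 h2
            rcases k with - | - | k
            · rw [mul_zero] at h1; omega
            · simp at h2
            · nlinarith
          rcases hp.dvd_mul.1 hdvd with h1 | h1
          · rcases hp.dvd_mul.1 h1 with h2 | h2
            · have := key q h2 (by omega) (by omega); omega
            · have := key (q - 1) h2 (by omega) (by omega); omega
          · exact key (q + 1) h1 (by omega) (by omega)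
        rw [hp2, hq2] at hc2
        simp only [Nat.add_sub_cancel] at hc2
        have h1 : 2 * p' ≤ q' := by omega
        have h2 : 2 * p' + 1 ≤ q' + 1 := by omega
        have h3 : 2 * p' + 2 ≤ q' + 1 + 1 := by omega
        have hp4 : 2 ≤ p' := by omega
        have h5 : 0 < p' * p' * (p' + 1) := by positivity
        nlinarith [Nat.mul_le_mul (Nat.mul_le_mul h1 h2) h3]
    · refine ⟨?_, ⟨i⟩⟩
      have hc := Nat.card_congr i.toEquiv
      rw [hX, S0265.result, hSL, hp2, hq2] at hc
      simp only [Nat.add_sub_cancel] at hc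
      have heq : p' = q' := cube_inj (by linarith)
      omega
  have hp3 : 3 < p := hqp ▸ hq3
  -- the derived group of the stabiliser
  obtain ⟨hFc, hFtr⟩ := card_derived h hb c.ne c.t_ne c.t_sq htα htβ
  have hthree : ∀ x : X, ∀ a b d : Ω, x • a = a → x • b = b → x • d = d → a ≠ b → a ≠ d → b ≠ d →
      x = 1 := by
    intro x a b d hxa hxb hxd hab had hbd
    obtain ⟨g, hga, hgb⟩ := h.two a b α β hab c.ne
    set y := g * x * g⁻¹ with hy
    have hyα : y • α = α := by rw [← hga, hy, mul_smul, mul_smul, inv_smul_smul, hxa]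
    have hyβ : y • β = β := by rw [← hgb, hy, mul_smul, mul_smul, inv_smul_smul, hxb]
    have hyd : y • g • d = g • d := by rw [hy, mul_smul, mul_smul, inv_smul_smul, hxd]
    obtain ⟨f, hf, hfd⟩ := hFtr (g • d) (fun e => had (MulAction.injective g (e.trans hga.symm)).symm)
    have hf1 : f ≠ 1 := fun e => hbd (by
      rw [e, OneMemClass.coe_one, one_smul] at hfd
      exact MulAction.injective g (hgb.trans hfd))
    let ys : stabilizer X α := ⟨y, mem_stabilizer_iff.2 hyα⟩
    let f' : _root_.commutator (stabilizer X α) := MulAut.conjNormal ys ⟨f, hf⟩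
    haveI := h.zst α
    have hprime : (Nat.card (_root_.commutator (stabilizer X α))).Prime := by rw [hFc]; exact hp
    haveI : Fact (Nat.card (_root_.commutator (stabilizer X α))).Prime := ⟨hprime⟩
    have hfeq : f' = ⟨f, hf⟩ := by
      by_contra hne
      -- both map `β` to `g • d`
      have h1 : (((f' : stabilizer X α) : X)) • β = g • d := by
        simp only [f', MulAut.conjNormal_apply, Subgroup.coe_mul, InvMemClass.coe_inv, ys]
        rw [mul_smul, mul_smul, fixes_inv hyβ, hfd, hyd]
      apply hne
      refine Subtype.ext (Subtype.ext ?_)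
      haveI := IsZGroup.isCyclic_commutator (stabilizer X α)
      have hmem : ((⟨f, hf⟩ : _root_.commutator (stabilizer X α))⁻¹ * f' :
          _root_.commutator (stabilizer X α)) = 1 := by
        set z := ((⟨f, hf⟩ : _root_.commutator (stabilizer X α))⁻¹ * f')
        refine Subtype.ext (Subtype.ext (h.eq_one_of_normalized (U := zpowers ((z : stabilizer X α) : X))
          c.ne (zpowers_le.2 (z : stabilizer X α).2)
          (fun g hg w hw => h.conj_mem_zpowers α hg z.2 hw) (fun w hw => ?_) (mem_zpowers _)))
        obtain ⟨j, rfl⟩ := Subgroup.mem_zpowers_iff.1 hw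
        refine fixes_zpow ?_ j
        simp only [z, Subgroup.coe_mul, InvMemClass.coe_inv, mul_smul]
        rw [h1, ← hfd, inv_smul_smul]
      exact congrArg (fun v : _root_.commutator (stabilizer X α) => ((v : stabilizer X α) : X))
        (inv_mul_eq_one.1 hmem).symm
    have hycent : ∀ v : _root_.commutator (stabilizer X α), MulAut.conjNormal ys v = v := by
      intro v
      obtain ⟨j, rfl⟩ : ∃ j : ℤ, (⟨f, hf⟩ : _root_.commutator (stabilizer X α)) ^ j = v :=
        Subgroup.mem_zpowers_iff.1 (mem_zpowers_of_prime_card (p := Nat.card (_root_.commutator (stabilizer X α)))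
          rfl (fun e => hf1 (congrArg Subtype.val e)))
      rw [map_zpow]
      exact congrArg (fun v : _root_.commutator (stabilizer X α) => v ^ j) hfeq
    have hy1 : y = 1 := by
      refine h.faith y fun w => ?_
      rcases eq_or_ne w α with rfl | hw
      · exact hyα
      obtain ⟨v, hv, rfl⟩ := hFtr w hw
      have h1 := congrArg (fun z : _root_.commutator (stabilizer X α) => ((z : stabilizer X α) : X))
        (hycent ⟨v, hv⟩)
      simp only [MulAut.conjNormal_apply, Subgroup.coe_mul, InvMemClass.coe_inv, ys] at h1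
      rw [← mul_smul, show y * (v : X) = y * v * y⁻¹ * y from by group, h1, mul_smul, hyβ]
    calc x = g⁻¹ * y * g := by rw [hy]; group
      _ = 1 := by rw [hy1]; group
  have hord : ∀ x : X, orderOf x ≤ p + 1 := by
    intro x
    by_cases hx2 : ∀ w : Ω, x • x • w = w
    · have h1 : x ^ 2 = 1 := h.faith _ fun w => by rw [pow_two, mul_smul, hx2]
      have := orderOf_le_of_pow_eq_one (by norm_num) h1
      omega
    push Not at hx2
    obtain ⟨w, hw⟩ := hx2
    have hw1 : x • w ≠ w := fun e => hw (by rw [e, e])
    set U := zpowers x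
    have h1 := index_stabilizer U w
    haveI : (stabilizer U w).Normal := ⟨fun a ha b => by
      haveI := IsCyclic.isMulCommutative (α := U)
      rwa [mul_comm' (M := U) b a, mul_inv_cancel_right]⟩
    set xu : U := ⟨x, mem_zpowers x⟩
    set k := (stabilizer U w).index with hk
    have hxk : x ^ k • w = w := mem_stabilizer_iff.1 (Subgroup.pow_index_mem (stabilizer U w) xu)
    have hkn : k ≤ p + 1 := by
      rw [h1, show p + 1 = n by omega, hn, ← Set.ncard_univ]
      exact Set.ncard_le_ncard (Set.subset_univ _)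
    have hk0 : 0 < k := Nat.pos_of_ne_zero Subgroup.index_ne_zero_of_finite
    have hcm : ∀ j : ℕ, x ^ k • x ^ j • w = x ^ j • w := fun j => by
      rw [← mul_smul, ← pow_add, add_comm, pow_add, mul_smul, hxk]
    have h2 : x ^ k = 1 := hthree _ w (x • w) (x • x • w) hxk
      (by simpa using hcm 1) (by simpa [pow_two, mul_smul] using hcm 2) hw1.symm (Ne.symm hw)
      (fun e => hw1 (MulAction.injective x e).symm)
    exact (orderOf_le_of_pow_eq_one hk0 h2).trans hkn
  have hzb : ∀ U : Subgroup X, IsZGroup U → Nat.card U ≤ p * (p - 1) := by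
    intro U hU
    have hpp : p + 1 ≤ p * (p - 1) := by
      have := Nat.mul_le_mul_left p (show 2 ≤ p - 1 by omega)
      omega
    haveI := hU
    by_cases hcom : _root_.commutator U = ⊥
    · haveI : IsCyclic U := by
        haveI : IsCyclic (Abelianization U) := IsZGroup.isCyclic_abelianization
        refine isCyclic_of_injective (Abelianization.of (G := U)) ?_
        rw [← MonoidHom.ker_eq_bot_iff, Abelianization.ker_of, hcom]
      obtain ⟨u, hu⟩ := IsCyclic.exists_ofOrder_eq_natCard (α := U)
      rw [← hu, ← Subgroup.orderOf_coe]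
      exact (hord _).trans hpp
    haveI := IsZGroup.isCyclic_commutator U
    haveI : Nontrivial (_root_.commutator U) := (Subgroup.nontrivial_iff_ne_bot _).2 hcom
    obtain ⟨r, hr, hrd⟩ := Nat.exists_prime_and_dvd (n := Nat.card (_root_.commutator U))
      (Finite.one_lt_card).ne'
    haveI : Fact r.Prime := ⟨hr⟩
    obtain ⟨z₀, hz₀⟩ := exists_prime_orderOf_dvd_card' r hrd
    set z : X := ((z₀ : U) : X) with hz
    have hzo : orderOf z = r := by rw [hz, Subgroup.orderOf_coe, Subgroup.orderOf_coe, hz₀]
    have hz1 : z ≠ 1 := fun e => hr.one_lt.ne' (by rw [← hzo, e, orderOf_one])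
    have hnorm : ∀ u ∈ U, ∃ j : ℤ, u * z * u⁻¹ = z ^ j := by
      intro u hu
      obtain ⟨m, hm⟩ := MonoidHom.map_cyclic
        ((MulAut.conjNormal (⟨u, hu⟩ : U) : MulAut (_root_.commutator U)).toMonoidHom)
      refine ⟨m, ?_⟩
      have h1 := congrArg (fun y : _root_.commutator U => ((y : U) : X)) (hm z₀)
      simpa only [MulEquiv.coe_toMonoidHom, MulAut.conjNormal_apply, Subgroup.coe_mul,
        InvMemClass.coe_inv, SubgroupClass.coe_zpow] using h1
    have hfixinv : ∀ u ∈ U, ∀ w : Ω, z • w = w → z • u • w = u • w := by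
      intro u hu w hw
      obtain ⟨j, hj⟩ := hnorm u⁻¹ (inv_mem hu)
      rw [inv_inv] at hj
      calc z • u • w = u • (u⁻¹ * z * u) • w := by rw [← mul_smul, ← mul_smul]; group
        _ = u • w := by rw [hj, fixes_zpow hw]
    have horb : ∀ w : Ω, Nat.card (stabilizer U w) * (orbit U w).ncard = Nat.card U := by
      intro w
      rw [← index_stabilizer]
      exact Subgroup.card_mul_index _
    by_cases hfix : ∃ γ : Ω, z • γ = γ
    · obtain ⟨γ, hγ⟩ := hfix
      by_cases hfix2 : ∃ δ : Ω, δ ≠ γ ∧ z • δ = δ
      · obtain ⟨δ, hδγ, hδ⟩ := hfix2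
        have hsub : orbit U γ ⊆ {γ, δ} := by
          rintro _ ⟨u, rfl⟩
          by_contra hh
          simp only [Set.mem_insert_iff, Set.mem_singleton_iff, not_or] at hh
          exact hz1 (hthree z γ δ ((u : X) • γ) hγ hδ (hfixinv _ u.2 γ hγ) hδγ.symm
            (Ne.symm hh.1) (Ne.symm hh.2))
        have hle : Nat.card (stabilizer U γ) ≤ p - 1 := by
          rw [← hpair γ δ hδγ.symm]
          refine Nat.card_le_card_of_injective (fun u => ⟨((u : U) : X), mem_two.2 ⟨u.2, ?_⟩⟩) ?_
          · have hu : ((u : U) : X) • γ = γ := u.2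
            by_contra hh
            exact hz1 (hthree z γ δ (((u : U) : X) • δ) hγ hδ (hfixinv _ (u : U).2 δ hδ) hδγ.symm
              (fun e => hδγ (MulAction.injective ((u : U) : X) (e.symm.trans hu.symm)))
              (Ne.symm hh))
          · intro u v huv
            exact Subtype.ext (Subtype.ext (congrArg (fun w : pairStab (X := X) γ δ => (w : X)) huv))
        have h2 : (orbit U γ).ncard ≤ 2 := by
          exact (Set.ncard_le_ncard hsub (Set.toFinite _)).trans (le_of_eq (Set.ncard_pair hδγ.symm))
        rw [← horb γ]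
        calc Nat.card (stabilizer U γ) * (orbit U γ).ncard ≤ (p - 1) * 2 := Nat.mul_le_mul hle h2
          _ ≤ p * (p - 1) := by rw [mul_comm]; exact Nat.mul_le_mul_right _ (by omega)
      · push Not at hfix2
        rw [← hS γ]
        refine Subgroup.card_le_of_le fun u hu => mem_stabilizer_iff.2 ?_
        by_contra hh
        exact hfix2 _ hh (hfixinv u hu γ hγ)
    · push Not at hfix
      obtain ⟨j0, hj0⟩ : r ∣ n := by
        have hp2 : IsPGroup r (zpowers z) := IsPGroup.of_card (n := 1) (by rw [pow_one, Nat.card_zpowers, hzo])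
        have h1 := hp2.card_modEq_card_fixedPoints (α := Ω)
        have h2 : Nat.card (fixedPoints (zpowers z) Ω) = 0 := by
          haveI : IsEmpty (fixedPoints (zpowers z) Ω) := ⟨fun w => hfix w.1 (w.2 ⟨z, mem_zpowers z⟩)⟩
          exact Nat.card_of_isEmpty
        rw [h2] at h1
        exact (Nat.modEq_zero_iff_dvd).1 h1
      rcases hr.eq_two_or_odd with h2r | hrodd
      · -- a central fixed-point-free involution
        have hz2 : z * z = 1 := by rw [← pow_two, ← h2r, ← hzo, pow_orderOf_eq_one]
        have hzc : ∀ u ∈ U, u * z = z * u := by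
          intro u hu
          obtain ⟨j, hj⟩ := hnorm u hu
          rcases Int.even_or_odd j with ⟨m, rfl⟩ | ⟨m, rfl⟩
          · exfalso
            rw [zpow_add, ← (Commute.refl z).mul_zpow, hz2, one_zpow] at hj
            exact hz1 (by simpa using hj)
          · rw [zpow_add, zpow_one, zpow_mul, zpow_two, hz2, one_zpow, one_mul] at hj
            calc u * z = u * z * u⁻¹ * u := by group
              _ = z * u := by rw [hj]
        rw [← horb α]
        have hle : Nat.card (stabilizer U α) ≤ 2 := by
          have hne : α ≠ z • α := fun e => hfix α e.symm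
          obtain ⟨s, hs⟩ : ∃ g : X, g • α = α ∧ g • β = z • α := h.two α β α (z • α) c.ne hne
          obtain ⟨hs1, hs2⟩ := hs
          have ht'1 : s * t * s⁻¹ ≠ 1 := fun e => c.t_ne (by simpa using e)
          have ht'2 : s * t * s⁻¹ * (s * t * s⁻¹) = 1 := by
            rw [show s * t * s⁻¹ * (s * t * s⁻¹) = s * (t * t) * s⁻¹ from by group, c.t_sq]; group
          have ht'α : (s * t * s⁻¹) • α = α := by
            rw [mul_smul, mul_smul, fixes_inv hs1, htα, hs1]
          have ht'β : (s * t * s⁻¹) • (z • α) = z • α := by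
            rw [← hs2, mul_smul, mul_smul, inv_smul_smul, htβ]
          have hsc := (small_count h hb hne ht'1 ht'2 ht'α ht'β hz2 rfl hfix).1
          let ι : stabilizer U α → Bool := fun u => decide (((u : U) : X) = 1)
          refine (Nat.card_le_card_of_injective ι ?_).trans (by simp)
          intro u v huv
          simp only [ι, decide_eq_decide] at huv
          have hmem : ∀ y : stabilizer U α, ((y : U) : X) = 1 ∨ ((y : U) : X) = s * t * s⁻¹ := by
            intro y
            have hy : ((y : U) : X) • α = α := y.2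
            refine hsc _ (mem_two.2 ⟨hy, ?_⟩) (hzc _ (y : U).2)
            rw [← mul_smul, hzc _ (y : U).2, mul_smul, hy]
          refine Subtype.ext (Subtype.ext ?_)
          rcases hmem u with h1 | h1
          · rw [h1, huv.1 h1]
          · rcases hmem v with h3 | h3
            · rw [h3, huv.2 h3]
            · rw [h1, h3]
        have hon : (orbit U α).ncard ≤ n := by
          rw [hn, ← Set.ncard_univ]; exact Set.ncard_le_ncard (Set.subset_univ _)
        calc _ ≤ 2 * n := Nat.mul_le_mul hle hon
          _ ≤ p * (p - 1) := by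
            have h5 : p ≠ 4 := fun e => by rw [e] at hp; norm_num at hp
            have := Nat.mul_le_mul_left p (show 4 ≤ p - 1 by omega)
            omega
      · -- the centraliser of `z` in `U` is semiregular
        set V : Subgroup U := (centralizer ({z} : Set X)).subgroupOf U with hV
        have hVn : Nat.card V ≤ n := by
          refine Nat.card_le_card_of_injective (fun v : V => ((v : U) : X) • α) ?_
          intro v v' hvv
          have hy : (((v' : U) : X)⁻¹ * ((v : U) : X)) • α = α := by
            rw [mul_smul]; exact inv_smul_eq_iff.2 hvv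
          have hyz : (((v' : U) : X)⁻¹ * ((v : U) : X)) * z = z * (((v' : U) : X)⁻¹ * ((v : U) : X)) :=
            mem_centralizer_singleton_iff.1 (mul_mem (inv_mem (Subgroup.mem_subgroupOf.1 v'.2))
              (Subgroup.mem_subgroupOf.1 v.2))
          have hy1 := Hyp.cent_fix (t := ((v' : U) : X)⁻¹ * ((v : U) : X)) (g := z) hyz.symm hy
          have hy2 := Hyp.cent_fix (t := ((v' : U) : X)⁻¹ * ((v : U) : X)) (g := z) hyz.symm hy1
          have h4 := hthree _ α (z • α) (z • z • α) hy hy1 hy2 (fun e => hfix α e.symm)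
            (fun e => by
              have h5 : z ^ 2 • α = α := by rw [pow_two, mul_smul]; exact e.symm
              have h6 : z ^ r • α = α := by rw [← hzo, pow_orderOf_eq_one, one_smul]
              obtain ⟨m, hm⟩ : ∃ m, r = 2 * m + 1 := ⟨r / 2, by omega⟩
              rw [hm, pow_succ', mul_smul, pow_mul] at h6
              have h7 : ∀ i : ℕ, (z ^ 2) ^ i • α = α := fun i => by
                rw [← zpow_natCast]; exact fixes_zpow h5 _
              rw [h7] at h6
              exact hfix α h6)
            (fun e => hfix α (MulAction.injective z e.symm))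
          exact Subtype.ext (Subtype.ext (inv_mul_eq_one.1 h4).symm)
        let φ : U →* MulAut (zpowers z) :=
          { toFun := fun u =>
              { toFun := fun y => ⟨(u : X) * y * (u : X)⁻¹, by
                  obtain ⟨i, hi⟩ := Subgroup.mem_zpowers_iff.1 y.2
                  obtain ⟨j, hj⟩ := hnorm u u.2
                  rw [← hi, ← conj_zpow, hj]
                  exact Subgroup.zpow_mem _ (Subgroup.zpow_mem _ (mem_zpowers z) _) _⟩
                invFun := fun y => ⟨(u : X)⁻¹ * y * (u : X), by
                  obtain ⟨i, hi⟩ := Subgroup.mem_zpowers_iff.1 y.2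
                  obtain ⟨j, hj⟩ := hnorm (u : X)⁻¹ (inv_mem u.2)
                  rw [inv_inv] at hj
                  rw [← hi, show (u : X)⁻¹ * z ^ i * (u : X) = ((u : X)⁻¹ * z * (u : X)) ^ i by
                    simpa using (conj_zpow (i := i) (a := (u : X)⁻¹) (b := z)).symm, hj]
                  exact Subgroup.zpow_mem _ (Subgroup.zpow_mem _ (mem_zpowers z) _) _⟩
                left_inv := fun y => Subtype.ext (by group)
                right_inv := fun y => Subtype.ext (by group)
                map_mul' := fun y y' => Subtype.ext (by simp only [Subgroup.coe_mul]; group) }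
            map_one' := by ext y; simp
            map_mul' := fun u v => by
              ext y
              show (u : X) * v * y * ((u : X) * v)⁻¹ = (u : X) * ((v : X) * y * (v : X)⁻¹) * (u : X)⁻¹
              group }
        have hker : φ.ker ≤ V := by
          intro u hu
          refine Subgroup.mem_subgroupOf.2 (mem_centralizer_singleton_iff.2 ?_)
          have h1 := congrArg Subtype.val (DFunLike.congr_fun hu ⟨z, mem_zpowers z⟩)
          change (u : X) * z * (u : X)⁻¹ = z at h1
          calc (u : X) * z = u * z * (u : X)⁻¹ * u := by group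
            _ = z * u := by rw [h1]
        have h1 : Nat.card φ.range ≤ r - 1 := by
          have h0 := Subgroup.card_le_card_group φ.range
          have hzc : Nat.card (zpowers z) = r := by rw [Nat.card_zpowers, hzo]
          rwa [IsCyclic.card_mulAut, hzc, Nat.totient_prime hr] at h0
        have h2 := Subgroup.card_mul_index φ.ker
        rw [Subgroup.index_ker] at h2
        rw [← h2]
        calc Nat.card φ.ker * Nat.card φ.range ≤ n * (r - 1) :=
              Nat.mul_le_mul ((Subgroup.card_le_of_le hker).trans hVn) h1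
          _ ≤ p * (p - 1) := by
            obtain ⟨m, hm⟩ := h.even
            have hm2 : r ∣ 2 * m := ⟨j0, by omega⟩
            rcases hr.dvd_mul.1 hm2 with h3 | h3
            · have := Nat.le_of_dvd (by norm_num) h3
              have := hr.two_le
              omega
            · have h4 := Nat.le_of_dvd (by omega) h3
              obtain ⟨p', hp2⟩ : ∃ p', p = p' + 1 := ⟨p - 1, by omega⟩
              obtain ⟨r', hr2⟩ : ∃ r', r = r' + 1 := ⟨r - 1, by have := hr.two_le; omega⟩
              rw [hp2, hr2, Nat.add_sub_cancel, Nat.add_sub_cancel, show n = p' + 2 by omega]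
              have h5 : 2 * r' ≤ p' := by omega
              nlinarith
  -- the socle
  set FX : Subgroup X := (_root_.commutator (stabilizer X α)).map (stabilizer X α).subtype with hFX
  set L : Subgroup X := normalClosure (FX : Set X) with hL
  have hFXL : FX ≤ L := fun x hx => subset_normalClosure hx
  have hFXc : Nat.card FX = p := by
    rw [hFX, Subgroup.card_map_of_injective (Subgroup.subtype_injective _), hFc]
  haveI := h.zst α
  have htransN : ∀ N : Subgroup X, N.Normal → N ≠ ⊥ → ∀ g : X, ∃ x ∈ N, (x⁻¹ * g) • α = α := by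
    intro N hN hne g
    obtain ⟨x, hx, hxa⟩ := h.normal_transitive hN hne α (g • α)
    exact ⟨x, hx, by rw [mul_smul, ← hxa, inv_smul_smul]⟩
  have hsolq : ∀ N : Subgroup X, N.Normal → N ≠ ⊥ → Group.IsSolvable N → False := by
    intro N hN hne hsN
    haveI := hN
    haveI := hsN
    haveI : Group.IsSolvable (X ⧸ N) := by
      refine Group.isSolvable_of_surjective
        (f := (QuotientGroup.mk' N).comp (stabilizer X α).subtype) ?_
      intro v
      obtain ⟨g, rfl⟩ := QuotientGroup.mk'_surjective N v
      obtain ⟨x, hx, hxg⟩ := htransN N hN hne g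
      refine ⟨⟨x⁻¹ * g, mem_stabilizer_iff.2 hxg⟩, ?_⟩
      show QuotientGroup.mk' N (x⁻¹ * g) = QuotientGroup.mk' N g
      rw [map_mul, map_inv, show QuotientGroup.mk' N x = 1 from (QuotientGroup.eq_one_iff x).2 hx,
        inv_one, one_mul]
    exact hns (Group.isSolvable_of_ker_le_range N.subtype (QuotientGroup.mk' N)
      (by rw [QuotientGroup.ker_mk', Subgroup.range_subtype]))
  have hLmin : ∀ N : Subgroup X, N.Normal → N ≠ ⊥ → L ≤ N := by
    intro N hN hne
    haveI := hN
    refine normalClosure_le_normal ?_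
    set M := (N.subgroupOf (stabilizer X α)) with hM
    have hMne : M ≠ ⊥ := by
      intro hbot
      refine hsolq N hN hne ?_
      have hreg : ∀ x ∈ N, x • α = α → x = 1 := fun x hx hxa => by
        have h1 : (⟨x, mem_stabilizer_iff.2 hxa⟩ : stabilizer X α) ∈ M := Subgroup.mem_subgroupOf.2 hx
        rw [hbot, Subgroup.mem_bot] at h1
        exact congrArg Subtype.val h1
      have hreg' : ∀ x ∈ N, ∀ w : Ω, x • w = w → x = 1 := fun x hx w hxw => by
        obtain ⟨g, hg⟩ := h.trans w α
        have := hreg (g * x * g⁻¹) (hN.conj_mem x hx g)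
          (by rw [← hg, mul_smul, mul_smul, inv_smul_smul, hxw])
        simpa using this
      obtain ⟨v, hv⟩ := exists_prime_orderOf_dvd_card' 2
        ((even_iff_two_dvd.1 h.even).trans (h.card_dvd_of_normal hN hne))
      have hsq : ∀ x : N, x * x = 1 := by
        intro x
        by_cases hx1 : x = 1
        · rw [hx1, mul_one]
        have hxm : (x : X) • α ≠ α := fun e => hx1 (Subtype.ext (hreg _ x.2 e))
        have hvm : (v : X) • α ≠ α := fun e => by
          rw [OneMemClass.coe_eq_one.1 (hreg _ v.2 e), orderOf_one] at hv; omega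
        obtain ⟨g, hg1, hg2⟩ := h.two α ((v : X) • α) α ((x : X) • α) hvm.symm hxm.symm
        have hmem := hN.conj_mem _ v.2 g
        have he : g * (v : X) * g⁻¹ = x := by
          refine inv_mul_eq_one.1 (hreg' ((x : X)⁻¹ * (g * v * g⁻¹)) (mul_mem (inv_mem x.2) hmem) α ?_) |>.symm
          rw [mul_smul, mul_smul, mul_smul, fixes_inv hg1, hg2, inv_smul_smul]
        refine Subtype.ext ?_
        rw [Subgroup.coe_mul, OneMemClass.coe_one, ← he,
          show g * (v : X) * g⁻¹ * (g * v * g⁻¹) = g * ((v : X) * v) * g⁻¹ from by group]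
        have hv2 : (v : X) * v = 1 := by
          rw [← pow_two, ← hv, ← Subgroup.orderOf_coe, pow_orderOf_eq_one]
        rw [hv2]; group
      refine Group.isSolvable_of_comm fun a b => ?_
      calc a * b = a * ((a * b) * (a * b)) * b := by rw [hsq, mul_one]
        _ = (a * a) * b * a * (b * b) := by group
        _ = b * a := by rw [hsq, hsq, one_mul, mul_one]
    by_contra hnle
    haveI : Fact (Nat.card FX).Prime := ⟨hFXc ▸ hp⟩
    have hinf : FX ⊓ N = ⊥ := by
      by_contra hh
      refine hnle fun x hx => ?_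
      obtain ⟨⟨y, hy⟩, hy1⟩ := Subgroup.ne_bot_iff_exists_ne_one.1 hh
      obtain ⟨j, hj⟩ := Subgroup.mem_zpowers_iff.1 (mem_zpowers_of_prime_card (p := Nat.card FX) rfl
        (g := (⟨y, hy.1⟩ : FX)) (g' := ⟨x, hx⟩) (fun e => hy1 (Subtype.ext (congrArg Subtype.val e :))))
      have hxy : x = y ^ j := by
        have := congrArg Subtype.val hj
        simpa using this.symm
      rw [hxy]
      exact Subgroup.zpow_mem _ hy.2 j
    obtain ⟨⟨m, hm⟩, hm1⟩ := Subgroup.ne_bot_iff_exists_ne_one.1 hMne
    have hmN : (m : X) ∈ N := Subgroup.mem_subgroupOf.1 hm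
    have hcom : ∀ f ∈ _root_.commutator (stabilizer X α), (m : X) * f = f * m := by
      intro f hf
      have h1 : m * f * m⁻¹ * f⁻¹ ∈ _root_.commutator (stabilizer X α) :=
        mul_mem ((inferInstance : (_root_.commutator (stabilizer X α)).Normal).conj_mem f hf m) (inv_mem hf)
      have h2 : ((m * f * m⁻¹ * f⁻¹ : stabilizer X α) : X) ∈ FX ⊓ N := by
        refine ⟨⟨_, h1, rfl⟩, ?_⟩
        simp only [Subgroup.coe_mul, InvMemClass.coe_inv]
        have := mul_mem hmN (hN.conj_mem _ (inv_mem hmN) (f : X))
        simpa [mul_assoc] using this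
      rw [hinf, Subgroup.mem_bot] at h2
      simp only [Subgroup.coe_mul, InvMemClass.coe_inv] at h2
      calc (m : X) * f = (m : X) * f * (m : X)⁻¹ * (f : X)⁻¹ * f * m := by group
        _ = f * m := by rw [h2, one_mul]
    have hma : (m : X) • α = α := m.2
    obtain ⟨f, hf, hfb⟩ := hFtr ((m : X) • β)
      (fun e => c.ne (MulAction.injective (m : X) (e.trans hma.symm)).symm)
    have heq : (f : X)⁻¹ * m = 1 := by
      refine h.faith _ fun w => ?_
      rcases eq_or_ne w α with rfl | hw
      · rw [mul_smul, hma, fixes_inv f.2]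
      obtain ⟨v, hv, rfl⟩ := hFtr w hw
      have hvf : (f : X)⁻¹ * v = v * (f : X)⁻¹ := by
        haveI := IsZGroup.isCyclic_commutator (stabilizer X α)
        exact congrArg (fun z : _root_.commutator (stabilizer X α) => ((z : stabilizer X α) : X))
          (cyc_comm (⟨f, hf⟩ : _root_.commutator (stabilizer X α))⁻¹ ⟨v, hv⟩)
      calc ((f : X)⁻¹ * m) • (v : X) • β = ((f : X)⁻¹ * ((m : X) * v)) • β := by
            rw [← mul_smul, mul_assoc]
        _ = ((v : X) * ((f : X)⁻¹ * m)) • β := by
            rw [hcom v hv, ← mul_assoc, hvf, mul_assoc]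
        _ = (v : X) • β := by rw [mul_smul, mul_smul, ← hfb, inv_smul_smul]
    have : (m : X) ∈ FX ⊓ N := ⟨⟨f, hf, inv_mul_eq_one.1 heq⟩, hmN⟩
    rw [hinf, Subgroup.mem_bot] at this
    exact hm1 (Subtype.ext (Subtype.ext this))
  have hFXne : FX ≠ ⊥ := fun e => by
    rw [e, Subgroup.card_bot] at hFXc
    omega
  have hLne : L ≠ ⊥ := fun e => hFXne (eq_bot_iff.2 (e ▸ hFXL))
  have hLn : L.Normal := normalClosure_normal
  haveI := hLn
  have hidx : Nat.card X ≤ 2 * Nat.card L := by
    obtain ⟨x, hx⟩ := exists_prime_orderOf_dvd_card' 2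
      ((even_iff_two_dvd.1 h.even).trans (h.card_dvd_of_normal hLn hLne))
    have hx1 : (x : X) ≠ 1 := fun e => by
      rw [← Subgroup.orderOf_coe, e, orderOf_one] at hx; omega
    have hx2 : (x : X) * x = 1 := by
      rw [← pow_two, ← hx, ← Subgroup.orderOf_coe, pow_orderOf_eq_one]
    obtain ⟨g, hg⟩ := h.exists_swap c.ne hx1 hx2
    set s := g * (x : X) * g⁻¹ with hs
    have hsL : s ∈ L := hLn.conj_mem _ x.2 g
    have hs2 : s * s = 1 := by
      rw [hs, show g * (x : X) * g⁻¹ * (g * x * g⁻¹) = g * ((x : X) * x) * g⁻¹ from by group, hx2]; group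
    have hsb : s • β = α := by rw [← hg, ← mul_smul, hs2, one_smul]
    obtain ⟨d₀, hd₀⟩ := IsCyclic.exists_generator (α := (pairStab α β : Subgroup X))
    set π := QuotientGroup.mk' L with hπ
    have hd2 : π (d₀ : X) ^ 2 = 1 := by
      rw [← map_pow]
      refine (QuotientGroup.eq_one_iff _).2 ?_
      have h1 := (hout s hg hsb).2 _ d₀.2
      have h2 : ((d₀ : X) * s * (d₀ : X)⁻¹) * s⁻¹ ∈ L := mul_mem (hLn.conj_mem _ hsL _) (inv_mem hsL)
      rw [pow_two]
      convert h2 using 1
      calc (d₀ : X) * d₀ = (d₀ : X) * ((d₀ : X)⁻¹)⁻¹ := by rw [inv_inv]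
        _ = (d₀ : X) * (s * d₀ * s⁻¹)⁻¹ := by rw [h1]
        _ = _ := by group
    have hcover : ∀ v : X ⧸ L, v ∈ zpowers (π d₀) := by
      intro v
      obtain ⟨y, rfl⟩ := QuotientGroup.mk'_surjective L v
      obtain ⟨l, hl', hly⟩ := htransN L hLn hLne y
      have hne' : (l⁻¹ * y) • β ≠ α := fun e => c.ne
        (MulAction.injective (l⁻¹ * y) (hly.trans e.symm))
      obtain ⟨f, hf, hfb⟩ := hFtr _ hne'
      have hd : (f : X)⁻¹ * (l⁻¹ * y) ∈ pairStab (X := X) α β := mem_two.2
        ⟨by rw [mul_smul, hly, fixes_inv f.2], by rw [mul_smul, ← hfb, inv_smul_smul]⟩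
      obtain ⟨j, hj⟩ := Subgroup.mem_zpowers_iff.1 (hd₀ ⟨_, hd⟩)
      refine ⟨j, ?_⟩
      have hj' : (d₀ : X) ^ j = (f : X)⁻¹ * (l⁻¹ * y) := congrArg Subtype.val hj
      show π d₀ ^ j = π y
      rw [← map_zpow, hj', map_mul, map_mul, map_inv, map_inv,
        show π (f : X) = 1 from (QuotientGroup.eq_one_iff _).2 (hFXL ⟨f, hf, rfl⟩),
        show π l = 1 from (QuotientGroup.eq_one_iff _).2 hl', inv_one, one_mul, one_mul]
    have h1 : Nat.card (X ⧸ L) ≤ 2 := by
      rw [← Subgroup.card_top (G := X ⧸ L)]
      refine (Subgroup.card_le_of_le (fun v _ => hcover v : (⊤ : Subgroup (X ⧸ L)) ≤ zpowers (π d₀))).trans ?_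
      rw [Nat.card_zpowers]
      exact orderOf_le_of_pow_eq_one (by norm_num) hd2
    rw [Subgroup.card_eq_card_quotient_mul_card_subgroup L]
    exact Nat.mul_le_mul_right _ h1
  have hsyl : Nat.card (Sylow p L) = p + 1 := by
    haveI : Fact (Nat.Prime 2) := ⟨Nat.prime_two⟩
    have hfac : (Nat.card L).factorization p = 1 := by
      have hLdvd := Subgroup.card_subgroup_dvd_card L
      have h1 : p ∣ Nat.card L := hFXc ▸ Subgroup.card_dvd_of_le hFXL
      have h2 : (Nat.card X).factorization p = 1 := by
        rw [hX, Nat.factorization_mul (mul_ne_zero (by omega) (by omega)) (by omega),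
          Nat.factorization_mul (by omega) (by omega), Finsupp.coe_add, Finsupp.coe_add,
          Pi.add_apply, Pi.add_apply, hp.factorization_self,
          Nat.factorization_eq_zero_of_not_dvd, Nat.factorization_eq_zero_of_not_dvd]
        · intro hd; have := Nat.le_of_dvd (by omega) hd; omega
        · intro hd
          have : p ∣ 1 := (Nat.dvd_add_right dvd_rfl).1 hd
          exact hp.one_lt.ne' (Nat.dvd_one.1 this)
      refine le_antisymm (h2 ▸ (Nat.factorization_le_iff_dvd Nat.card_pos.ne' Nat.card_pos.ne').2 hLdvd p) ?_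
      exact (Nat.Prime.pow_dvd_iff_le_factorization hp Nat.card_pos.ne').1 (by rwa [pow_one])
    let P : Sylow p L := Sylow.ofCard (FX.subgroupOf L) (by
      rw [Nat.card_congr (Subgroup.subgroupOfEquivOfLe hFXL).toEquiv, hFXc, hfac, pow_one])
    have hNP : normalizer ((P : Subgroup L) : Set L) = stabilizer L α := by
      ext l
      constructor
      · intro hl
        refine mem_stabilizer_iff.2 ?_
        by_contra hne'
        have hfix : ∀ f ∈ FX, f • ((l : X) • α) = (l : X) • α := by
          intro f hf
          have h1 := (Subgroup.mem_normalizer_iff'.1 hl (l⁻¹ * ⟨f, hFXL hf⟩)).2 (by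
            show _ ∈ FX.subgroupOf L
            simpa [Subgroup.mem_subgroupOf] using hf)
          obtain ⟨f', hf', he⟩ := Subgroup.mem_subgroupOf.1 h1
          simp only [Subgroup.coe_subtype, Subgroup.coe_mul, InvMemClass.coe_inv] at he
          have h2 : f * (l : X) = (l : X) * (f' : X) := by rw [he]; group
          rw [← mul_smul, h2, mul_smul, show (f' : X) • α = α from f'.2]
        obtain ⟨⟨f, hf⟩, hf1⟩ := Subgroup.ne_bot_iff_exists_ne_one.1 hFXne
        obtain ⟨f', hf', rfl⟩ := hf
        refine hf1 (Subtype.ext ?_)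
        have hfix' := hfix f' ⟨f', hf', rfl⟩
        exact h.eq_one_of_normalized (U := zpowers (f' : X)) (Ne.symm hne') (zpowers_le.2 f'.2)
          (fun g hg w hw => h.conj_mem_zpowers α hg hf' hw)
          (fun w hw => by
            obtain ⟨j, rfl⟩ := Subgroup.mem_zpowers_iff.1 hw
            exact fixes_zpow hfix' j) (mem_zpowers _)
      · intro hl
        have hla : (l : X) • α = α := hl
        refine Subgroup.mem_normalizer_iff.2 fun y => ?_
        show y ∈ FX.subgroupOf L ↔ l * y * l⁻¹ ∈ FX.subgroupOf L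
        simp only [Subgroup.mem_subgroupOf, Subgroup.coe_mul, InvMemClass.coe_inv]
        have hconj : ∀ g : X, g • α = α → ∀ z ∈ FX, g * z * g⁻¹ ∈ FX := by
          rintro g hg _ ⟨z, hz, rfl⟩
          exact ⟨⟨g, mem_stabilizer_iff.2 hg⟩ * z * (⟨g, mem_stabilizer_iff.2 hg⟩)⁻¹,
            (inferInstance : (_root_.commutator (stabilizer X α)).Normal).conj_mem z hz _, rfl⟩
        refine ⟨hconj _ hla _, fun hy => ?_⟩
        have := hconj _ (fixes_inv hla) _ hy
        simpa [mul_assoc] using this
    rw [P.card_eq_index_normalizer]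
    refine (congrArg Subgroup.index hNP).trans ?_
    rw [index_stabilizer]
    have : orbit L α = Set.univ := by
      ext w
      simp only [Set.mem_univ, iff_true]
      obtain ⟨g, hg, hgw⟩ := h.normal_transitive hLn hLne α w
      exact ⟨⟨g, hg⟩, hgw⟩
    rw [this, Set.ncard_univ]
    omega
  exact ⟨p, hp, hp3, ⟨hX, hord, hzb, L, hLn, fun hsL => hsolq L hLn hLne hsL, hidx, hLmin, hsyl⟩,
    F, hF, hFf, hqp, hpgl⟩

end Final

end Cfsg.Agent.CZFact
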