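import Cfsg.Agent.CZFact.Final
import Cfsg.Agent.Signalizer.Functor
import Cfsg.Agent.S3559
import Cfsg.Agent.S3972
import Cfsg.Agent.GenDih.Small

/-!
# The reduction
-/

set_option autoImplicit false
set_option linter.style.haveILetI false
set_option linter.unusedSectionVars false
set_option maxHeartbeats 1000000

namespace Cfsg.Agent.CZFact

open Subgroup MulAction
open scoped commutatorElement

universe u

/-- A factorisation as a cyclic group times a Z-group. -/
structure Fz {G : Type u} [Group G] (A B : Subgroup G) : Prop where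
  cyc : IsCyclic A
  z : IsZGroup B
  prod : ∀ g : G, ∃ a ∈ A, ∃ b ∈ B, g = a * b

/-- No solvable normal subgroup. -/
def SemiSimple (G : Type u) [Group G] : Prop :=
  ∀ N : Subgroup G, N.Normal → Group.IsSolvable N → N = ⊥

theorem exists_radical (G : Type u) [Group G] [Finite G] : ∃ R : Subgroup G, R.Normal ∧
    Group.IsSolvable R ∧ ∀ N : Subgroup G, N.Normal → Group.IsSolvable N → N ≤ R := by
  classical
  have hbot : Group.IsSolvable (⊥ : Subgroup G) := Group.isSolvable_of_comm fun a b => by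
    rw [Subsingleton.elim a b]
  obtain ⟨R, ⟨hR1, hR2⟩, hmax⟩ := Set.Finite.exists_maximalFor (fun N : Subgroup G => N)
    {N : Subgroup G | N.Normal ∧ Group.IsSolvable N} (Set.toFinite _) ⟨⊥, inferInstance, hbot⟩
  refine ⟨R, hR1, hR2, fun N hN hNs => ?_⟩
  haveI := hR1
  haveI := hN
  have h1 : Group.IsSolvable (R ⊔ N : Subgroup G) := Signalizer.isSolvable_sup
    (by rw [Subgroup.normalizer_eq_top_iff.2 hR1]; exact le_top) hR2 hNs
  exact le_sup_right.trans (hmax ⟨inferInstance, h1⟩ le_sup_left)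

theorem semiSimple_quotient {G : Type u} [Group G] [Finite G] {R : Subgroup G} [R.Normal]
    (hR : Group.IsSolvable R) (hmax : ∀ N : Subgroup G, N.Normal → Group.IsSolvable N → N ≤ R) :
    SemiSimple (G ⧸ R) := by
  intro N hN hNs
  have hle : N.comap (QuotientGroup.mk' R) ≤ R := by
    refine hmax _ (hN.comap _) ?_
    haveI := hR
    haveI := hNs
    let f : N.comap (QuotientGroup.mk' R) →* N := (QuotientGroup.mk' R).subgroupComap N
    refine Group.isSolvable_of_ker_le_range
      (Subgroup.inclusion (show R ≤ N.comap (QuotientGroup.mk' R) from fun x hx => by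
        rw [Subgroup.mem_comap, show QuotientGroup.mk' R x = 1 from (QuotientGroup.eq_one_iff x).2 hx]
        exact one_mem _)) f ?_
    intro x hx
    have h1 : QuotientGroup.mk' R (x : G) = 1 := congrArg Subtype.val hx
    exact ⟨⟨x, (QuotientGroup.eq_one_iff _).1 h1⟩, rfl⟩
  rw [← Subgroup.map_comap_eq_self_of_surjective (QuotientGroup.mk'_surjective R) N, eq_bot_iff,
    Subgroup.map_le_iff_le_comap, MonoidHom.comap_bot, QuotientGroup.ker_mk']
  exact hle

theorem IsPGLp.of_equiv {G H : Type u} [Group G] [Group H] [Finite G] (e : G ≃* H) (h : IsPGLp G) :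
    IsPGLp H := by
  obtain ⟨p, hp, hp3, hd, F, i1, i2, hc, ⟨f⟩⟩ := h
  haveI : Fact p.Prime := ⟨hp⟩
  exact ⟨p, hp, hp3, hd.of_equiv e, F, i1, i2, hc, ⟨e.symm.trans f⟩⟩

theorem Fz.map {G H : Type u} [Group G] [Finite G] [Group H] {A B : Subgroup G} (h : Fz A B)
    (f : G →* H) (hf : Function.Surjective f) : Fz (A.map f) (B.map f) where
  cyc := by
    haveI := h.cyc
    exact isCyclic_of_surjective _ (f.subgroupMap_surjective A)
  z := by
    haveI := h.z
    exact IsZGroup.of_surjective (f.subgroupMap_surjective B)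
  prod y := by
    obtain ⟨x, rfl⟩ := hf y
    obtain ⟨a, ha, b, hb, rfl⟩ := h.prod x
    exact ⟨f a, ⟨a, ha, rfl⟩, f b, ⟨b, hb, rfl⟩, map_mul f a b⟩

theorem Fz.B_solvable {G : Type u} [Group G] [Finite G] {A B : Subgroup G} (h : Fz A B) :
    Group.IsSolvable B := by
  haveI := h.z
  haveI : Group.IsSolvable (_root_.commutator B) := by
    haveI := IsZGroup.isCyclic_commutator B
    exact Group.isSolvable_of_comm fun a b => cyc_comm a b
  exact Group.isSolvable_of_ker_le_range (_root_.commutator B).subtype (Abelianization.of (G := B))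
    (by rw [Abelianization.ker_of, Subgroup.range_subtype])

section Bound

variable {G : Type u} [Group G] [Finite G] {A B : Subgroup G}

/-- In a surjective image both factors are as large as possible. -/
theorem image_bound {H : Type u} [Group H] [Finite H] {p : ℕ} (hd : Data H p) (hp : 1 < p)
    (h : Fz A B) {a : G} (ha : zpowers a = A) (φ : G →* H) (hφ : Function.Surjective φ) :
    orderOf (φ a) = p + 1 ∧ Nat.card (B.map φ) = p * (p - 1) := by
  have h1 : Nat.card H ≤ orderOf (φ a) * Nat.card (B.map φ) := by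
    rw [← Nat.card_zpowers, ← Nat.card_prod]
    refine Nat.card_le_card_of_surjective
      (fun y : zpowers (φ a) × B.map φ => (y.1 : H) * (y.2 : H)) ?_
    intro y
    obtain ⟨x, rfl⟩ := hφ y
    obtain ⟨a', ha', b, hb, rfl⟩ := h.prod x
    rw [← ha] at ha'
    obtain ⟨j, rfl⟩ := Subgroup.mem_zpowers_iff.1 ha'
    exact ⟨(⟨φ a ^ j, j, rfl⟩, ⟨φ b, b, hb, rfl⟩), by simp [map_mul, map_zpow]⟩
  have h2 := hd.ord (φ a)
  have h3 := hd.zb (B.map φ) (h.map φ hφ).z
  rw [hd.card, mul_assoc] at h1
  have hpos : 0 < p * (p - 1) := Nat.mul_pos (by omega) (by omega)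
  refine ⟨le_antisymm h2 ?_, le_antisymm h3 ?_⟩
  · exact Nat.le_of_mul_le_mul_right (h1.trans (Nat.mul_le_mul_left _ h3)) hpos
  · exact Nat.le_of_mul_le_mul_left (h1.trans (Nat.mul_le_mul_right _ h2)) (by omega)

/-- `G` cannot be a subdirect product of two copies with a large kernel. -/
theorem no_two {H₁ H₂ : Type u} [Group H₁] [Finite H₁] [Group H₂] [Finite H₂] {p q : ℕ}
    (hd₁ : Data H₁ p) (hd₂ : Data H₂ q) (hp : p.Prime) (hq : q.Prime) (hp3 : 3 < p) (hq3 : 3 < q)
    (h : Fz A B) (φ₁ : G →* H₁) (h₁ : Function.Surjective φ₁) (φ₂ : G →* H₂)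
    (h₂ : Function.Surjective φ₂) (hinj : ∀ x, φ₁ x = 1 → φ₂ x = 1 → x = 1)
    (hbig : Nat.card H₁ * Nat.card H₂ ≤ 2 * Nat.card G) : False := by
  obtain ⟨a, ha⟩ := (Subgroup.isCyclic_iff_exists_zpowers_eq_top A).1 h.cyc
  obtain ⟨ho₁, hB₁⟩ := image_bound hd₁ hp.one_lt h ha φ₁ h₁
  obtain ⟨ho₂, hB₂⟩ := image_bound hd₂ hq.one_lt h ha φ₂ h₂
  have hpodd : Odd p := hp.odd_of_ne_two (by omega)
  have hqodd : Odd q := hq.odd_of_ne_two (by omega)
  -- the cyclic factor
  have hA : 2 * Nat.card A ≤ (p + 1) * (q + 1) := by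
    rw [← ha, Nat.card_zpowers]
    have h1 : orderOf a ∣ Nat.lcm (p + 1) (q + 1) := by
      refine orderOf_dvd_of_pow_eq_one (hinj _ ?_ ?_)
      · rw [map_pow]; exact orderOf_dvd_iff_pow_eq_one.1 (ho₁ ▸ Nat.dvd_lcm_left _ _)
      · rw [map_pow]; exact orderOf_dvd_iff_pow_eq_one.1 (ho₂ ▸ Nat.dvd_lcm_right _ _)
    have h2 : 2 ≤ Nat.gcd (p + 1) (q + 1) := by
      refine Nat.le_of_dvd (Nat.gcd_pos_of_pos_left _ (by omega)) (Nat.dvd_gcd ?_ ?_)
      · exact even_iff_two_dvd.1 hpodd.add_one
      · exact even_iff_two_dvd.1 hqodd.add_one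
    rw [← Nat.gcd_mul_lcm (p + 1) (q + 1)]
    exact Nat.mul_le_mul h2 (Nat.le_of_dvd (Nat.pos_of_ne_zero
      (Nat.lcm_ne_zero (by omega) (by omega))) h1)
  -- the Z-group factor
  have hB : 2 * Nat.card B ≤ (p * (p - 1)) * (q * (q - 1)) := by
    let ψ : B →* (B.map φ₁) × (B.map φ₂) := (φ₁.subgroupMap B).prod (φ₂.subgroupMap B)
    have hψ : Function.Injective ψ := by
      refine (injective_iff_map_eq_one ψ).2 fun x hx => Subtype.ext (hinj _ ?_ ?_)
      · exact congrArg (fun y : (B.map φ₁) × (B.map φ₂) => (y.1 : H₁)) hx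
      · exact congrArg (fun y : (B.map φ₁) × (B.map φ₂) => (y.2 : H₂)) hx
    have hne : ψ.range ≠ ⊤ := by
      intro htop
      haveI : Fact (Nat.Prime 2) := ⟨Nat.prime_two⟩
      have h2a : 2 ∣ Nat.card (B.map φ₁) := by
        rw [hB₁]; exact Dvd.dvd.mul_left (even_iff_two_dvd.1 (Nat.Odd.sub_odd hpodd odd_one)) _
      have h2b : 2 ∣ Nat.card (B.map φ₂) := by
        rw [hB₂]; exact Dvd.dvd.mul_left (even_iff_two_dvd.1 (Nat.Odd.sub_odd hqodd odd_one)) _
      obtain ⟨i₁, hi₁⟩ := exists_prime_orderOf_dvd_card' 2 h2a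
      obtain ⟨i₂, hi₂⟩ := exists_prime_orderOf_dvd_card' 2 h2b
      obtain ⟨x, hx⟩ : ((i₁, 1) : (B.map φ₁) × (B.map φ₂)) ∈ ψ.range := htop ▸ Subgroup.mem_top _
      obtain ⟨y, hy⟩ : ((1, i₂) : (B.map φ₁) × (B.map φ₂)) ∈ ψ.range := htop ▸ Subgroup.mem_top _
      have hxo : orderOf x = 2 := by
        rw [← orderOf_injective ψ hψ x, hx, Prod.orderOf, orderOf_one, Nat.lcm_one_right, hi₁]
      have hyo : orderOf y = 2 := by
        rw [← orderOf_injective ψ hψ y, hy, Prod.orderOf, orderOf_one, Nat.lcm_one_left, hi₂]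
      have hcom : Commute x y := hψ (by
        rw [map_mul, map_mul, hx, hy, Prod.mk_mul_mk, Prod.mk_mul_mk, mul_one, one_mul, one_mul,
          mul_one])
      have hxy : x ≠ y := fun e => by
        rw [e, hy] at hx
        have h3 : i₂ = 1 := (congrArg Prod.snd hx).trans rfl
        rw [h3, orderOf_one] at hi₂
        omega
      have hp2 : ∀ z : B, orderOf z = 2 → IsPGroup 2 (zpowers z) := fun z hz =>
        IsPGroup.of_card (n := 1) (by rw [Nat.card_zpowers, hz, pow_one])
      have hV : IsPGroup 2 (zpowers x ⊔ zpowers y : Subgroup B) := by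
        refine (hp2 x hxo).to_sup_of_normal_left' (hp2 y hyo) (zpowers_le.2 ?_)
        refine Subgroup.mem_normalizer_iff.2 fun z => ⟨fun hz => ?_, fun hz => ?_⟩
        · obtain ⟨j, rfl⟩ := Subgroup.mem_zpowers_iff.1 hz
          rw [((hcom.symm).zpow_right j).eq, mul_inv_cancel_right]
          exact Subgroup.zpow_mem _ (mem_zpowers x) _
        · obtain ⟨j, hj⟩ := Subgroup.mem_zpowers_iff.1 hz
          refine ⟨j, ?_⟩
          show x ^ j = z
          have h3 : z = y⁻¹ * (y * z * y⁻¹) * y := by group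
          rw [h3, ← hj, mul_assoc, ((hcom).zpow_left j).eq, inv_mul_cancel_left]
      haveI := h.z
      have hcyc := hV.isCyclic_of_isZGroup
      refine hxy (cyclic_unique_inv hcyc (Subgroup.mem_sup_left (mem_zpowers x))
        (Subgroup.mem_sup_right (mem_zpowers y)) ?_ ?_ ?_ ?_)
      · intro e; rw [e, orderOf_one] at hxo; omega
      · intro e; rw [e, orderOf_one] at hyo; omega
      · rw [← pow_two, ← hxo, pow_orderOf_eq_one]
      · rw [← pow_two, ← hyo, pow_orderOf_eq_one]
    have h1 := Subgroup.card_mul_index ψ.range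
    have h2 : 2 ≤ ψ.range.index := by
      have h3 : ψ.range.index ≠ 0 := Subgroup.index_ne_zero_of_finite
      have h4 : ψ.range.index ≠ 1 := fun e => hne (Subgroup.index_eq_one.1 e)
      omega
    rw [Nat.card_prod, hB₁, hB₂] at h1
    rw [← h1, ← Nat.card_congr (MonoidHom.ofInjective hψ).toEquiv, mul_comm]
    exact Nat.mul_le_mul_left _ h2
  have hG : Nat.card G ≤ Nat.card A * Nat.card B := by
    rw [← Nat.card_prod]
    refine Nat.card_le_card_of_surjective (fun y : A × B => (y.1 : G) * y.2) fun g => ?_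
    obtain ⟨a, ha, b, hb, rfl⟩ := h.prod g
    exact ⟨(⟨a, ha⟩, ⟨b, hb⟩), rfl⟩
  have hAB := Nat.mul_le_mul hA hB
  rw [hd₁.card, hd₂.card] at hbig
  have hid : (p + 1) * (q + 1) * ((p * (p - 1)) * (q * (q - 1))) =
      ((p + 1) * p * (p - 1)) * ((q + 1) * q * (q - 1)) := by ring
  rw [hid] at hAB
  have hpos : 0 < Nat.card G := Nat.card_pos
  have hAB' : 4 * (Nat.card A * Nat.card B) ≤ ((p + 1) * p * (p - 1)) * ((q + 1) * q * (q - 1)) := by
    linarith
  omega

end Bound

/-- The core-free case gives a two-transitive action. -/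
theorem hyp_of_core_free {G : Type u} [Group G] [Finite G] {A B : Subgroup G} (hns : ¬ Group.IsSolvable G)
    (h : Fz A B) (hB : IsCoatom B) (hdis : A ⊓ B = ⊥) (hcore : B.normalCore = ⊥) :
    Hyp G (G ⧸ B) := by
  classical
  haveI : Fact (Nat.Prime 2) := ⟨Nat.prime_two⟩
  haveI := h.cyc
  have hfaith : ∀ g : G, (∀ w : G ⧸ B, g • w = w) → g = 1 := by
    intro g hg
    have h1 : g ∈ B.normalCore := by
      rw [Subgroup.normalCore_eq_ker]
      exact Equiv.ext hg
    rwa [hcore, Subgroup.mem_bot] at h1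
  have hAtr : ∀ w : G ⧸ B, ∃ a ∈ A, a • ((1 : G) : G ⧸ B) = w := by
    intro w
    obtain ⟨g, rfl⟩ := QuotientGroup.mk_surjective w
    obtain ⟨a, ha, b, hb, rfl⟩ := h.prod g
    refine ⟨a, ha, ?_⟩
    show ((a * 1 : G) : G ⧸ B) = _
    rw [mul_one, QuotientGroup.eq]
    simpa using hb
  have hAfree : ∀ a ∈ A, ∀ w : G ⧸ B, a • w = w → a = 1 := by
    intro a ha w hw
    refine hfaith a fun v => ?_
    obtain ⟨x, hx, rfl⟩ := hAtr w
    obtain ⟨y, hy, rfl⟩ := hAtr v
    have hc : ∀ s ∈ A, ∀ r ∈ A, s * r = r * s := fun s hs r hr =>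
      congrArg Subtype.val (cyc_comm (⟨s, hs⟩ : A) ⟨r, hr⟩)
    have h1 : a • (((1 : G) : G ⧸ B)) = ((1 : G) : G ⧸ B) := by
      apply MulAction.injective x
      show x • a • _ = x • _
      rw [← mul_smul, hc x hx a ha, mul_smul, hw]
    rw [← mul_smul, hc a ha y hy, mul_smul, h1]
  have hAcard : Nat.card A = Nat.card (G ⧸ B) :=
    Nat.card_congr (Equiv.ofBijective (fun a : A => (a : G) • ((1 : G) : G ⧸ B)) ⟨fun a a' hh => by
        have h1 := hAfree ((a' : G)⁻¹ * a) (mul_mem (inv_mem a'.2) a.2) _ (by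
          rw [mul_smul]; exact inv_smul_eq_iff.2 hh)
        exact Subtype.ext (inv_mul_eq_one.1 h1).symm,
      fun w => by obtain ⟨a, ha, hh⟩ := hAtr w; exact ⟨⟨a, ha⟩, hh⟩⟩)
  have hn : B.index = Nat.card (G ⧸ B) := rfl
  have heven : Even (Nat.card (G ⧸ B)) := by
    by_contra hodd
    apply hns
    obtain ⟨S⟩ : Nonempty (Sylow 2 B) := inferInstance
    haveI := h.z
    have hScyc : IsCyclic (S : Subgroup B) := IsZGroup.isZGroup 2 Nat.prime_two S
    let S' : Sylow 2 G := Sylow.ofCard ((S : Subgroup B).map B.subtype) (by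
      rw [Subgroup.card_map_of_injective B.subtype_injective, S.card_eq_multiplicity,
        ← B.card_mul_index, Nat.factorization_mul Nat.card_pos.ne' (by rw [hn]; exact Nat.card_pos.ne'),
        Finsupp.coe_add, Pi.add_apply, hn,
        Nat.factorization_eq_zero_of_not_dvd (fun hd => hodd (even_iff_two_dvd.2 hd)), add_zero])
    refine GenDih.isSolvable_of_cyclic_sylow S' ?_
    haveI := hScyc
    exact isCyclic_of_surjective _ ((S : Subgroup B).equivMapOfInjective B.subtype B.subtype_injective).surjective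
  have hlarge : 4 ≤ Nat.card (G ⧸ B) := by
    have h0 : Nat.card (G ⧸ B) ≠ 0 := Nat.card_pos.ne'
    by_contra hlt
    have h2 : B.index = 2 := by
      rw [hn]
      obtain ⟨r, hr⟩ := heven
      omega
    haveI := Subgroup.normal_of_index_eq_two h2
    rw [Subgroup.normalCore_eq_self] at hcore
    subst hcore
    rw [Subgroup.index_bot] at h2
    haveI : IsCyclic G := isCyclic_of_prime_card (p := 2) h2
    exact hns (Group.isSolvable_of_comm fun a b => cyc_comm a b)
  have hst : ∀ w : G ⧸ B, IsZGroup (stabilizer G w) := by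
    intro w
    obtain ⟨g, rfl⟩ := QuotientGroup.mk_surjective w
    haveI := h.z
    have hst1 : stabilizer G ((g : G) : G ⧸ B) = B.map (MulAut.conj g).toMonoidHom := by
      ext x
      rw [mem_stabilizer_iff]
      constructor
      · intro hx
        have hx' : ((x * g : G) : G ⧸ B) = (g : G ⧸ B) := hx
        rw [QuotientGroup.eq] at hx'
        refine ⟨g⁻¹ * x * g, ?_, by simp [MulAut.conj_apply, mul_assoc]⟩
        simpa [mul_assoc] using inv_mem hx'
      · rintro ⟨b, hb, rfl⟩
        show ((MulAut.conj g b * g : G) : G ⧸ B) = (g : G ⧸ B)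
        rw [QuotientGroup.eq]
        simpa [MulAut.conj_apply, mul_assoc] using inv_mem hb
    rw [hst1]
    exact IsZGroup.of_surjective (f := (MulAut.conj g).toMonoidHom.subgroupMap B)
      ((MulAut.conj g).toMonoidHom.subgroupMap_surjective B)
  refine ⟨hfaith, ?_, heven, hlarge, hst, ?_⟩
  · -- two-transitivity
    haveI : FaithfulSMul G (G ⧸ B) := ⟨fun {g g'} hh => by
      have := hfaith (g'⁻¹ * g) fun w => by rw [mul_smul, hh w, inv_smul_smul]
      exact (inv_mul_eq_one.1 this).symm⟩
    haveI : Nontrivial (G ⧸ B) := Finite.one_lt_card_iff_nontrivial.1 (by omega)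
    have hprim : MulAction.IsPreprimitive G (G ⧸ B) := by
      rw [← isCoatom_stabilizer_iff_preprimitive G ((1 : G) : G ⧸ B)]
      simpa [MulAction.stabilizer_quotient] using hB
    by_cases hpp : IsPrimePow (Nat.card (G ⧸ B))
    · obtain ⟨r, m, hr, hm, hrm⟩ := (isPrimePow_nat_iff _).1 hpp
      have hr2 : r = 2 := by
        have h2 : 2 ∣ r ^ m := hrm.symm ▸ even_iff_two_dvd.1 heven
        exact ((Nat.prime_dvd_prime_iff_eq Nat.prime_two hr).1 (Nat.prime_two.dvd_of_dvd_pow h2)).symm
      subst hr2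
      have hm2 : 2 ≤ m := by
        by_contra hh
        have hm1 : m = 1 := by omega
        rw [hm1, pow_one] at hrm
        omega
      haveI := Fintype.ofFinite (G ⧸ B)
      let ι := MulAction.toPermHom G (G ⧸ B)
      have hι : Function.Injective ι := (injective_iff_map_eq_one ι).2 fun g hg =>
        hfaith g fun w => by
          have := congrArg (fun e : Equiv.Perm (G ⧸ B) => e w) hg
          simpa [ι] using this
      have htr : MulAction.IsPretransitive ι.range (G ⧸ B) := ⟨fun v w => by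
        obtain ⟨g, hg⟩ := MulAction.exists_smul_eq G v w
        exact ⟨⟨ι g, g, rfl⟩, hg⟩⟩
      intro a b c d hab hcd
      by_contra hno
      have h2 : ¬ MulAction.IsMultiplyPretransitive ι.range (G ⧸ B) 2 := by
        rw [MulAction.is_two_pretransitive_iff]
        intro hall
        obtain ⟨⟨_, g, rfl⟩, hg1, hg2⟩ := hall hab hcd
        exact hno ⟨g, hg1, hg2⟩
      obtain ⟨a₀, ha₀⟩ := (Subgroup.isCyclic_iff_exists_zpowers_eq_top A).1 h.cyc
      have ho : orderOf (ι a₀) = 2 ^ m := by
        rw [orderOf_injective ι hι, ← Nat.card_zpowers, ha₀, hAcard, hrm]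
      refine (S3972.result 2 m Nat.prime_two hm2 (by rw [← Nat.card_eq_fintype_card, hrm]) ι.range htr h2
        ⟨ι a₀, a₀, rfl⟩ ((Subgroup.orderOf_coe (⟨ι a₀, a₀, rfl⟩ : ι.range)).symm.trans ho)).1 ?_
      haveI := htr
      rw [← isCoatom_stabilizer_iff_preprimitive ι.range ((1 : G) : G ⧸ B)]
      let eι : G ≃* ι.range := MonoidHom.ofInjective hι
      have hs : stabilizer ι.range ((1 : G) : G ⧸ B) =
          eι.mapSubgroup (stabilizer G ((1 : G) : G ⧸ B)) := by
        ext ⟨_, g, rfl⟩
        simp only [MulEquiv.mapSubgroup_apply, Subgroup.mem_map]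
        constructor
        · intro hx
          exact ⟨g, hx, rfl⟩
        · rintro ⟨g', hg', hgg⟩
          have : g' = g := hι (congrArg Subtype.val hgg)
          subst this
          exact hg'
      rw [hs, OrderIso.isCoatom_iff, isCoatom_stabilizer_iff_preprimitive]
      exact hprim
    · have h1 := S3559.result (G := G) (Ω := G ⧸ B) inferInstance (by omega) hpp A h.cyc
        ⟨⟨fun v w => by
          obtain ⟨x, hx, rfl⟩ := hAtr v
          obtain ⟨y, hy, rfl⟩ := hAtr w
          refine ⟨⟨y * x⁻¹, mul_mem hy (inv_mem hx)⟩, ?_⟩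
          change (y * x⁻¹ : G) • (x • ((1 : G) : G ⧸ B)) = y • ((1 : G) : G ⧸ B)
          rw [← mul_smul, inv_mul_cancel_right]⟩,
        fun w => by
          rw [eq_bot_iff]
          intro a ha
          exact Subtype.ext (hAfree a a.2 w ha)⟩
      have h2 := h1.resolve_left (fun hh => hh hprim)
      intro a b c d hab hcd
      exact MulAction.is_two_pretransitive_iff.1 h2 hab hcd
  · -- the semiregular cyclic 2-subgroup
    obtain ⟨S⟩ : Nonempty (Sylow 2 A) := inferInstance
    refine ⟨(S : Subgroup A).map A.subtype, ?_, ?_, ?_⟩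
    · exact isCyclic_of_surjective _ ((S : Subgroup A).equivMapOfInjective A.subtype A.subtype_injective).surjective
    · rintro _ ⟨a, -, rfl⟩ w hw
      exact hAfree a a.2 w hw
    · rw [Subgroup.card_map_of_injective A.subtype_injective, S.card_eq_multiplicity, hAcard]

/-- Main theorem on groups without solvable normal subgroups. -/
theorem main : ∀ (n : ℕ) (G : Type u) [Group G] [Finite G] (A B : Subgroup G), Nat.card G = n →
    ¬ Group.IsSolvable G → Fz A B → SemiSimple G → IsPGLp G := by
  intro n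
  induction n using Nat.strong_induction_on with
  | _ n ih =>
  intro G _ _ A B hn hns h hss
  classical
  -- smaller groups
  have ih' : ∀ (K : Type u) [Group K] [Finite K] (A' B' : Subgroup K), Nat.card K < n →
      ¬ Group.IsSolvable K → Fz A' B' → ∃ (R : Subgroup K) (_ : R.Normal),
        Group.IsSolvable R ∧ (∀ N : Subgroup K, N.Normal → Group.IsSolvable N → N ≤ R) ∧
        IsPGLp (K ⧸ R) := by
    intro K _ _ A' B' hK hKns h'
    obtain ⟨R, hRn, hRs, hRm⟩ := exists_radical K
    refine ⟨R, hRn, hRs, hRm, ?_⟩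
    refine ih _ ?_ (K ⧸ R) _ _ rfl (fun hq => hKns ?_) (h'.map _ (QuotientGroup.mk'_surjective R))
      (semiSimple_quotient hRs hRm)
    · have h1 := Subgroup.card_eq_card_quotient_mul_card_subgroup R
      have h2 : 0 < Nat.card R := Nat.card_pos
      calc Nat.card (K ⧸ R) ≤ Nat.card K := by rw [h1]; exact Nat.le_mul_of_pos_right _ h2
        _ < n := hK
    · haveI := hRs; haveI := hq
      exact Group.isSolvable_of_ker_le_range R.subtype (QuotientGroup.mk' R)
        (by rw [QuotientGroup.ker_mk', Subgroup.range_subtype])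
  haveI := h.cyc
  have hBne : B ≠ ⊤ := fun e => hns (by
    haveI := h.B_solvable
    exact Group.isSolvable_of_surjective (f := B.subtype)
      (fun x => ⟨⟨x, e ▸ Subgroup.mem_top x⟩, rfl⟩))
  obtain ⟨M, hM, hBM⟩ := (eq_top_or_exists_le_coatom B).resolve_left hBne
  by_cases hA0 : A ⊓ M = ⊥
  · have hMB : M = B := le_antisymm (fun x hx => by
      obtain ⟨a, ha, b, hb, rfl⟩ := h.prod x
      have ha' : a ∈ A ⊓ M := ⟨ha, by simpa using mul_mem hx (inv_mem (hBM hb))⟩
      rw [hA0, Subgroup.mem_bot] at ha'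
      rw [ha', one_mul]; exact hb) hBM
    rw [hMB] at hM hA0
    have hcore : B.normalCore = ⊥ := hss _ inferInstance (by
      haveI := h.B_solvable
      exact Group.isSolvable_of_isSolvable_injective (f := Subgroup.inclusion (Subgroup.normalCore_le B))
        (Subgroup.inclusion_injective _))
    exact (hyp_of_core_free hns h hM hA0 hcore).isPGLp hns
  -- the maximal subgroup has a core
  have hN0 : M.normalCore ≠ ⊥ := by
    obtain ⟨⟨x, hx⟩, hx1⟩ := Subgroup.ne_bot_iff_exists_ne_one.1 hA0
    intro hb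
    refine hx1 (Subtype.ext ?_)
    have hmem : x ∈ M.normalCore := by
      intro g
      obtain ⟨a, ha, b, hb', hgab⟩ := h.prod g⁻¹
      have hg : g = b⁻¹ * a⁻¹ := by rw [← inv_inv g, hgab, mul_inv_rev]
      have hax : a⁻¹ * x * a = x := by
        rw [mul_assoc, show x * a = a * x from congrArg Subtype.val (cyc_comm (⟨x, hx.1⟩ : A) ⟨a, ha⟩),
          inv_mul_cancel_left]
      have : g * x * g⁻¹ = b⁻¹ * x * b := by
        rw [hg, show b⁻¹ * a⁻¹ * x * (b⁻¹ * a⁻¹)⁻¹ = b⁻¹ * (a⁻¹ * x * a) * b from by group, hax]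
      rw [this]
      exact mul_mem (mul_mem (inv_mem (hBM hb')) hx.2) (hBM hb')
    rw [hb, Subgroup.mem_bot] at hmem
    exact hmem
  set N := M.normalCore with hN
  have hNM : N ≤ M := Subgroup.normalCore_le M
  haveI hNn : N.Normal := inferInstance
  have hNns : ¬ Group.IsSolvable N := fun hs => hN0 (hss N hNn hs)
  have hMns : ¬ Group.IsSolvable M := fun hs => hNns (by
    haveI := hs
    exact Group.isSolvable_of_isSolvable_injective (f := Subgroup.inclusion hNM) (Subgroup.inclusion_injective _))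
  have hMlt : Nat.card M < n := by
    rw [← hn]
    exact lt_of_le_of_ne (Subgroup.card_le_card_group M) fun e => hM.1 (Subgroup.eq_top_of_card_eq M e)
  have hzM : Fz (A.subgroupOf M) (B.subgroupOf M) := by
    haveI := h.z
    refine ⟨isCyclic_of_injective ((M.subtype.subgroupComap A)) ?_,
      IsZGroup.of_injective (f := (Subgroup.subgroupOfEquivOfLe hBM).toMonoidHom) (MulEquiv.injective _),
      fun g => ?_⟩
    · intro x y hxy
      exact Subtype.ext (Subtype.ext (congrArg Subtype.val hxy :))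
    · obtain ⟨a, ha, b, hb, hab⟩ := h.prod g
      have haM : a ∈ M := by
        rw [show a = (g : G) * b⁻¹ by rw [hab, mul_inv_cancel_right]]
        exact mul_mem g.2 (inv_mem (hBM hb))
      exact ⟨⟨a, haM⟩, Subgroup.mem_subgroupOf.2 ha, ⟨b, hBM hb⟩, Subgroup.mem_subgroupOf.2 hb,
        Subtype.ext hab⟩
  obtain ⟨RM, hRMn, hRMs, hRMm, hgl⟩ := ih' M _ _ hMlt hMns hzM
  obtain ⟨p, hp, hp3, hd, hFd⟩ := hgl
  haveI : Fact p.Prime := ⟨hp⟩
  set π := QuotientGroup.mk' RM with hπ
  -- the radical of `M` meets `N` trivially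
  have hRMN : ∀ x : M, x ∈ RM → (x : G) ∈ N → x = 1 := by
    intro x hx hxN
    obtain ⟨RN, hRNn, hRNs, hRNm⟩ := exists_radical N
    have hRN : RN.map N.subtype = ⊥ := by
      refine hss _ ⟨fun y hy g => ?_⟩ ?_
      · obtain ⟨y, hy', rfl⟩ := hy
        let φ : N ≃* N := (MulAut.conjNormal g : MulAut N)
        have hle : RN.map φ.toMonoidHom ≤ RN := hRNm _ (hRNn.map _ φ.surjective) (by
          haveI := hRNs
          exact Group.isSolvable_of_surjective (f := φ.toMonoidHom.subgroupMap RN)
            (φ.toMonoidHom.subgroupMap_surjective RN))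
        exact ⟨φ y, hle ⟨y, hy', rfl⟩, MulAut.conjNormal_apply g y⟩
      · haveI := hRNs
        exact Group.isSolvable_of_surjective (f := N.subtype.subgroupMap RN)
          (N.subtype.subgroupMap_surjective RN)
    set X0 := RM.comap (Subgroup.inclusion hNM) with hX0
    have h1 : X0 ≤ RN := hRNm X0 (hRMn.comap _) (by
      haveI := hRMs
      refine Group.isSolvable_of_isSolvable_injective (f := (Subgroup.inclusion hNM).subgroupComap RM) ?_
      intro u v huv
      exact Subtype.ext (Subgroup.inclusion_injective _ (congrArg Subtype.val huv :)))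
    have h2 : (x : G) ∈ RN.map N.subtype := ⟨⟨x, hxN⟩, h1 (show _ ∈ RM by exact hx), rfl⟩
    rw [hRN, Subgroup.mem_bot] at h2
    exact Subtype.ext h2
  obtain ⟨L₁, hL₁n, hL₁ns, hL₁c, hL₁min, hL₁syl⟩ := hd.low
  -- the socle
  set L : Subgroup G := ⁅N, N⁆ with hLdef
  haveI hLn : L.Normal := inferInstance
  have hLN : L ≤ N := Subgroup.commutator_le_left N N
  have hLM : L ≤ M := hLN.trans hNM
  have hLne : L ≠ ⊥ := by
    intro e
    refine hNns (Group.isSolvable_of_comm fun a b => Subtype.ext ?_)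
    have := (Subgroup.commutator_eq_bot_iff_le_centralizer.1 e) a.2
    exact ((Subgroup.mem_centralizer_iff.1 this) b b.2).symm
  let ρ : L →* M ⧸ RM := π.comp (Subgroup.inclusion hLM)
  have hρinj : Function.Injective ρ := (injective_iff_map_eq_one ρ).2 fun x hx => by
    have := hRMN (Subgroup.inclusion hLM x) ((QuotientGroup.eq_one_iff _).1 hx) (hLN x.2)
    exact Subgroup.inclusion_injective _ (this.trans (map_one _).symm)
  have hρrange : ρ.range = L₁ := by
    have himg : ρ.range = (L.subgroupOf M).map π := by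
      ext y
      constructor
      · rintro ⟨x, rfl⟩
        exact ⟨_, Subgroup.mem_subgroupOf.2 x.2, rfl⟩
      · rintro ⟨x, hx, rfl⟩
        exact ⟨⟨x, Subgroup.mem_subgroupOf.1 hx⟩, rfl⟩
    refine le_antisymm ?_ ?_
    · haveI := hL₁n
      have hcom : ∀ a b : (M ⧸ RM) ⧸ L₁, a * b = b * a := by
        have hc : Nat.card ((M ⧸ RM) ⧸ L₁) ≤ 2 := by
          have h1 := Subgroup.card_eq_card_quotient_mul_card_subgroup L₁
          rw [h1] at hL₁c
          exact Nat.le_of_mul_le_mul_right hL₁c Nat.card_pos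
        haveI : IsCyclic ((M ⧸ RM) ⧸ L₁) := by
          have hpos : 0 < Nat.card ((M ⧸ RM) ⧸ L₁) := Nat.card_pos
          rcases (show Nat.card ((M ⧸ RM) ⧸ L₁) = 1 ∨ Nat.card ((M ⧸ RM) ⧸ L₁) = 2 by omega) with h1 | h1
          · haveI := (Nat.card_eq_one_iff_unique.1 h1).1
            infer_instance
          · haveI : Fact (Nat.Prime 2) := ⟨Nat.prime_two⟩
            exact isCyclic_of_prime_card h1
        exact fun a b => cyc_comm a b
      set P0 : Subgroup G := (L₁.comap π).map M.subtype
      have hle : L ≤ P0 := by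
        rw [hLdef, Subgroup.commutator_le]
        intro a ha b hb
        refine ⟨⁅(⟨a, hNM ha⟩ : M), ⟨b, hNM hb⟩⁆, ?_, map_commutatorElement M.subtype _ _⟩
        show π ⁅(⟨a, hNM ha⟩ : M), ⟨b, hNM hb⟩⁆ ∈ L₁
        rw [← QuotientGroup.eq_one_iff (N := L₁), map_commutatorElement]
        show QuotientGroup.mk' L₁ ⁅π ⟨a, hNM ha⟩, π ⟨b, hNM hb⟩⁆ = 1
        rw [map_commutatorElement, commutatorElement_eq_one_iff_commute]
        exact hcom _ _
      rintro _ ⟨x, rfl⟩
      obtain ⟨y, hy, hyx⟩ := hle x.2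
      have : Subgroup.inclusion hLM x = y := Subtype.ext hyx.symm
      show π (Subgroup.inclusion hLM x) ∈ L₁
      rw [this]; exact hy
    · refine hL₁min _ (himg ▸ (hLn.subgroupOf M).map π (QuotientGroup.mk'_surjective RM)) ?_
      rw [Ne, MonoidHom.range_eq_bot_iff]
      intro hone
      refine hLne (eq_bot_iff.2 fun x hx => ?_)
      have : (⟨x, hx⟩ : L) = 1 := hρinj (by rw [hone]; rfl)
      exact congrArg Subtype.val this
  let eL : L ≃* L₁ := (MonoidHom.ofInjective hρinj).trans (MulEquiv.subgroupCongr hρrange)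
  set C : Subgroup G := centralizer (L : Set G) with hC
  haveI hCn : C.Normal := Subgroup.normal_centralizer
  have hCRM : ∀ x : M, (x : G) ∈ C ↔ x ∈ RM := by
    intro x
    constructor
    · intro hx
      have hcn : (centralizer (L₁ : Set (M ⧸ RM))).Normal := by
        haveI := hL₁n; exact Subgroup.normal_centralizer
      by_contra hxR
      have hne : centralizer (L₁ : Set (M ⧸ RM)) ≠ ⊥ := by
        intro e
        refine hxR ((QuotientGroup.eq_one_iff x).1 ?_)
        rw [← Subgroup.mem_bot, ← e, Subgroup.mem_centralizer_iff]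
        intro y hy
        rw [SetLike.mem_coe, ← hρrange] at hy
        obtain ⟨l, rfl⟩ := hy
        show π _ * π x = π x * π _
        rw [← map_mul, ← map_mul]
        exact congrArg π (Subtype.ext ((Subgroup.mem_centralizer_iff.1 hx) l l.2))
      have hle := hL₁min _ hcn hne
      exact hL₁ns (Group.isSolvable_of_comm fun a b =>
        Subtype.ext ((Subgroup.mem_centralizer_iff.1 (hle b.2)) a a.2))
    · intro hx
      rw [Subgroup.mem_centralizer_iff]
      intro l hl
      set lM : M := ⟨l, hLM hl⟩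
      have hk : lM * x * lM⁻¹ * x⁻¹ = 1 := by
        refine hRMN _ (mul_mem (hRMn.conj_mem x hx lM) (inv_mem hx)) ?_
        have : (lM * x * lM⁻¹ * x⁻¹ : M) = lM * (x * lM⁻¹ * x⁻¹) := by group
        rw [this, Subgroup.coe_mul, Subgroup.coe_mul, Subgroup.coe_mul]
        exact mul_mem (hLN hl) (hNn.conj_mem _ (inv_mem (hLN hl)) (x : G))
      have hk' : l * (x : G) * l⁻¹ * (x : G)⁻¹ = 1 := congrArg Subtype.val hk
      calc l * (x : G) = l * x * l⁻¹ * (x : G)⁻¹ * x * l := by group
        _ = x * l := by rw [hk', one_mul]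
  have hLC : ∀ x ∈ L, x ∈ C → x = 1 := by
    intro x hx hxC
    have h1 := hRMN ⟨x, hLM hx⟩ ((hCRM ⟨x, hLM hx⟩).1 hxC) (hLN hx)
    exact congrArg Subtype.val h1
  -- bound on the automorphism group induced on `L`
  let conjL : G →* MulAut L := MulAut.conjNormal
  letI : MulDistribMulAction G L := MulDistribMulAction.compHom L conjL
  letI actL : MulAction L (Sylow p L) := Sylow.mulAction
  obtain ⟨P⟩ : Nonempty (Sylow p L) := inferInstance
  have hsylL : Nat.card (Sylow p L) = p + 1 := by
    rw [← hL₁syl]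
    let P' : Sylow p L₁ := P.mapSurjective (f := eL.toMonoidHom) eL.surjective
    rw [P.card_eq_index_normalizer, P'.card_eq_index_normalizer]
    show _ = (normalizer (((P : Subgroup L).map eL.toMonoidHom : Subgroup L₁) : Set L₁)).index
    rw [← Subgroup.map_equiv_normalizer_eq]
    exact (Subgroup.index_map_of_bijective eL.bijective _).symm
  have hPcard : Nat.card (P : Subgroup L) = p := by
    have hLdvd : Nat.card L ∣ Nat.card (M ⧸ RM) :=
      Nat.card_congr eL.toEquiv ▸ Subgroup.card_subgroup_dvd_card L₁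
    have hXp : (Nat.card (M ⧸ RM)).factorization p ≤ 1 := by
      rw [hd.card, Nat.factorization_mul (mul_ne_zero (by omega) (by omega)) (by omega),
        Nat.factorization_mul (by omega) (by omega), Finsupp.coe_add, Finsupp.coe_add,
        Pi.add_apply, Pi.add_apply, hp.factorization_self,
        Nat.factorization_eq_zero_of_not_dvd, Nat.factorization_eq_zero_of_not_dvd]
      · intro hd; have := Nat.le_of_dvd (by omega) hd; omega
      · intro hd
        have : p ∣ 1 := (Nat.dvd_add_right dvd_rfl).1 hd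
        exact hp.one_lt.ne' (Nat.dvd_one.1 this)
    have hle := (Nat.factorization_le_iff_dvd Nat.card_pos.ne' Nat.card_pos.ne').2 hLdvd p
    have hge : (Nat.card L).factorization p ≠ 0 := by
      intro h0
      have hbot : (P : Subgroup L) = ⊥ := by
        apply Subgroup.eq_bot_of_card_eq
        rw [P.card_eq_multiplicity, h0, pow_zero]
      rw [P.card_eq_index_normalizer] at hsylL
      change (normalizer (((P : Subgroup L)) : Set L)).index = p + 1 at hsylL
      rw [hbot] at hsylL
      rw [show normalizer ((⊥ : Subgroup L) : Set L) = ⊤ from Subgroup.normalizer_eq_top_iff.2 inferInstance,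
        Subgroup.index_top] at hsylL
      omega
    rw [P.card_eq_multiplicity, show (Nat.card L).factorization p = 1 by omega, pow_one]
  set K := stabilizer G P with hK
  have hKidx : K.index ≤ p + 1 := by
    rw [hK, index_stabilizer, ← hsylL, ← Set.ncard_univ]
    exact Set.ncard_le_ncard (Set.subset_univ _)
  -- the only Sylow subgroup fixed by `P` is `P`
  have honly : ∀ Q : Sylow p L, (∀ x ∈ (P : Subgroup L), x • Q = Q) → Q = P := by
    intro Q hQ
    have h1 : (P : Subgroup L) ≤ (Q : Subgroup L) ⊔ ⊥ := by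
      rw [sup_bot_eq]
      have hnorm : (P : Subgroup L) ≤ normalizer ((Q : Subgroup L) : Set L) := fun x hx =>
        Sylow.smul_eq_iff_mem_normalizer.1 (hQ x hx)
      have hsup : IsPGroup p ((Q : Subgroup L) ⊔ P : Subgroup L) :=
        Q.2.to_sup_of_normal_left' P.2 hnorm
      exact le_sup_right.trans (Q.3 hsup le_sup_left).le
    rw [sup_bot_eq] at h1
    exact Sylow.ext (P.3 Q.2 h1)
  have hLact : ∀ (l : L) (Q : Sylow p L), (l : G) • Q = l • Q := by
    intro l Q
    refine Sylow.ext ?_
    ext y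
    constructor
    · rintro ⟨z, hz, rfl⟩
      exact ⟨z, hz, Subtype.ext (by
        show ((MulAut.conj l z : L) : G) = ((conjL (l : G) z : L) : G)
        rw [MulAut.conjNormal_apply]; rfl)⟩
    · rintro ⟨z, hz, rfl⟩
      exact ⟨z, hz, Subtype.ext (by
        show ((conjL (l : G) z : L) : G) = ((MulAut.conj l z : L) : G)
        rw [MulAut.conjNormal_apply]; rfl)⟩
  -- the kernel of the action on the Sylow subgroups
  obtain ⟨Ker, hKer⟩ : ∃ Ker : Subgroup G, Ker = (MulAction.toPermHom G (Sylow p L)).ker := ⟨_, rfl⟩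
  haveI hKern : Ker.Normal := by rw [hKer]; infer_instance
  have hKerL : ∀ x ∈ L, x ∈ Ker → x = 1 := by
    intro x hx hxK
    have hn' : ((Ker ⊓ L).subgroupOf M).Normal := Subgroup.Normal.subgroupOf inferInstance M
    by_contra hx1
    have himg := hL₁min _ (hn'.map π (QuotientGroup.mk'_surjective RM)) (fun e => hx1 (by
      have hxm : π ⟨x, hLM hx⟩ ∈ ((Ker ⊓ L).subgroupOf M).map π :=
        ⟨_, Subgroup.mem_subgroupOf.2 (Subgroup.mem_inf.2 ⟨hxK, hx⟩), rfl⟩
      rw [e, Subgroup.mem_bot] at hxm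
      exact congrArg Subtype.val (hρinj (a₁ := ⟨x, hx⟩) (a₂ := 1) (hxm.trans (map_one ρ).symm))))
    -- then `L` fixes every Sylow subgroup
    have hfixall : ∀ l : L, l • P = P := by
      intro l
      have hl1 : ρ l ∈ L₁ := by rw [← hρrange]; exact ⟨l, rfl⟩
      obtain ⟨y, hy, hyl⟩ := himg hl1
      obtain ⟨hy1, hy2⟩ := Subgroup.mem_inf.1 (Subgroup.mem_subgroupOf.1 hy)
      have hyeq : (⟨(y : G), hy2⟩ : L) = l :=
        hρinj (show ρ ⟨(y : G), hy2⟩ = ρ l from hyl)
      rw [← hLact, ← hyeq]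
      rw [hKer, MonoidHom.mem_ker] at hy1
      exact congrArg (fun e : Equiv.Perm (Sylow p L) => e P) hy1
    have hall : ∀ Q : Sylow p L, Q = P := fun Q => by
      obtain ⟨l, rfl⟩ := MulAction.exists_smul_eq L P Q
      exact hfixall l
    haveI : Subsingleton (Sylow p L) := ⟨fun Q Q' => (hall Q).trans (hall Q').symm⟩
    have := Finite.card_le_one_iff_subsingleton.2 (inferInstance : Subsingleton (Sylow p L))
    omega
  have hKerC : Ker ≤ C := by
    intro g hg
    rw [Subgroup.mem_centralizer_iff]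
    intro l hl
    have h1 := hKerL (g * l * g⁻¹ * l⁻¹) (mul_mem (hLn.conj_mem l hl g) (inv_mem hl)) (by
      have hkn : Ker.Normal := inferInstance
      have := mul_mem hg (hkn.conj_mem _ (inv_mem hg) l)
      simpa [mul_assoc] using this)
    calc l * g = (g * l * g⁻¹ * l⁻¹)⁻¹ * (g * l) := by group
      _ = g * l := by rw [h1, inv_one, one_mul]
  -- bound inside the stabiliser
  have hGC : C.index ≤ (p + 1) * (p * (p - 1)) := by
    have hCK : C ≤ K := by
      intro g hg
      refine mem_stabilizer_iff.2 (Sylow.ext ?_)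
      have hid : ∀ z : L, conjL g z = z := fun z => Subtype.ext (by
        rw [MulAut.conjNormal_apply, ← (Subgroup.mem_centralizer_iff.1 hg) z z.2, mul_inv_cancel_right])
      ext y
      constructor
      · rintro ⟨z, hz, rfl⟩
        show conjL g z ∈ (P : Subgroup L)
        rw [hid]; exact hz
      · intro hy
        exact ⟨y, hy, hid y⟩
    rw [← Subgroup.relIndex_mul_index hCK, mul_comm (p + 1)]
    refine Nat.mul_le_mul ?_ hKidx
    -- the action on `P`
    have hmem : ∀ (g : K) (z : (P : Subgroup L)), conjL g z ∈ (P : Subgroup L) := fun g z => by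
      have hz : (g : G) • P = P := g.2
      have hmz : conjL g z ∈ (((g : G) • P : Sylow p L) : Subgroup L) := ⟨z, z.2, rfl⟩
      rwa [hz] at hmz
    let ψ : K →* MulAut (P : Subgroup L) :=
      { toFun := fun g =>
          { toFun := fun z => ⟨conjL g z, hmem g z⟩
            invFun := fun z => ⟨conjL ((g⁻¹ : K) : G) z, hmem g⁻¹ z⟩
            left_inv := fun z => Subtype.ext (by
              show conjL ((g⁻¹ : K) : G) (conjL g z) = z
              rw [← MulAut.mul_apply, ← map_mul, Subgroup.coe_inv, inv_mul_cancel, map_one, MulAut.one_apply])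
            right_inv := fun z => Subtype.ext (by
              show conjL g (conjL ((g⁻¹ : K) : G) z) = z
              rw [← MulAut.mul_apply, ← map_mul, Subgroup.coe_inv, mul_inv_cancel, map_one, MulAut.one_apply])
            map_mul' := fun z z' => Subtype.ext (map_mul (conjL g) _ _) }
        map_one' := by
          ext z
          show ((conjL ((1 : K) : G) z : L) : G) = ((z : L) : G)
          rw [OneMemClass.coe_one, map_one]; rfl
        map_mul' := fun g g' => by
          ext z
          show ((conjL ((g * g' : K) : G) z : L) : G) = ((conjL g (conjL g' z) : L) : G)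
          rw [Subgroup.coe_mul, map_mul]; rfl }
    haveI : IsCyclic (P : Subgroup L) := isCyclic_of_prime_card hPcard
    have hrange : Nat.card ψ.range ≤ p - 1 := by
      have h0 := Subgroup.card_le_card_group ψ.range
      rwa [IsCyclic.card_mulAut, hPcard, Nat.totient_prime hp] at h0
    set CK := C.subgroupOf K with hCKdef
    have hCker : CK ≤ ψ.ker := by
      intro g hg
      rw [MonoidHom.mem_ker]
      ext z
      show ((conjL (g : G) z : L) : G) = ((z : L) : G)
      rw [MulAut.conjNormal_apply,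
        ← (Subgroup.mem_centralizer_iff.1 (Subgroup.mem_subgroupOf.1 hg)) _ (z : L).2, mul_inv_cancel_right]
    show CK.index ≤ p * (p - 1)
    rw [← Subgroup.relIndex_mul_index hCker, Subgroup.index_ker]
    refine Nat.mul_le_mul ?_ hrange
    -- elements centralising `P`
    have hPK : ∀ u ∈ (P : Subgroup L), ((u : L) : G) ∈ K := fun u hu => by
      refine mem_stabilizer_iff.2 ?_
      rw [hLact, Sylow.smul_eq_iff_mem_normalizer]
      exact Subgroup.le_normalizer hu
    have hPker : ∀ (u : L) (hu : u ∈ (P : Subgroup L)), (⟨(u : G), hPK u hu⟩ : K) ∈ ψ.ker := by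
      intro u hu
      rw [MonoidHom.mem_ker]
      ext z
      show ((conjL (u : G) z : L) : G) = ((z : L) : G)
      have hcm := congrArg (fun v : (P : Subgroup L) => ((v : L) : G)) (cyc_comm ⟨u, hu⟩ z)
      simp only [Subgroup.coe_mul] at hcm
      rw [MulAut.conjNormal_apply, hcm, mul_inv_cancel_right]
    refine le_of_le_of_eq ?_ hPcard
    rw [Subgroup.relIndex, Subgroup.index]
    refine Nat.card_le_card_of_surjective
      (fun u : (P : Subgroup L) => QuotientGroup.mk (⟨⟨((u : L) : G), hPK u u.2⟩, hPker u u.2⟩ : ψ.ker)) ?_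
    intro v
    obtain ⟨⟨g, hg⟩, rfl⟩ := QuotientGroup.mk_surjective v
    -- a second Sylow subgroup
    obtain ⟨Q, hQ⟩ : ∃ Q : Sylow p L, Q ≠ P := by
      haveI : Nontrivial (Sylow p L) := Finite.one_lt_card_iff_nontrivial.1 (by omega)
      exact _root_.exists_ne P
    have horb : ∀ Q' : Sylow p L, Q' ≠ P → ∃ u ∈ (P : Subgroup L), u • Q = Q' := by
      intro Q' hQ'
      have hsub : orbit (P : Subgroup L) Q ⊆ {P}ᶜ := by
        rintro _ ⟨u, rfl⟩ hu
        refine hQ ?_
        have h1 : (u : L) • Q = P := hu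
        have h2 : (u : L) • P = P := Sylow.smul_eq_iff_mem_normalizer.2 (Subgroup.le_normalizer u.2)
        exact MulAction.injective (u : L) (h1.trans h2.symm)
      have hc : ({P}ᶜ : Set (Sylow p L)).ncard = p := by
        rw [Set.ncard_compl, Set.ncard_singleton, hsylL]; omega
      have ho : (orbit (P : Subgroup L) Q).ncard = p := by
        have h1 := index_stabilizer (P : Subgroup L) Q
        rw [← h1]
        have hdvd : (stabilizer (P : Subgroup L) Q).index ∣ p :=
          (Subgroup.index_dvd_card _).trans (dvd_of_eq hPcard)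
        rcases (Nat.dvd_prime hp).1 hdvd with h2 | h2
        · exfalso
          refine hQ (honly Q fun x hx => ?_)
          have : (⟨x, hx⟩ : (P : Subgroup L)) ∈ stabilizer (P : Subgroup L) Q := by
            rw [Subgroup.index_eq_one.1 h2]; exact Subgroup.mem_top _
          exact this
        · exact h2
      have heq := Set.eq_of_subset_of_ncard_le hsub (by rw [hc, ho]) (Set.toFinite _)
      obtain ⟨u, hu⟩ : Q' ∈ orbit (P : Subgroup L) Q := (by rw [heq]; exact hQ')
      exact ⟨u, u.2, hu⟩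
    have hgP : (g : G) • P = P := g.2
    obtain ⟨u, hu, huQ⟩ := horb ((g : G) • Q) (fun e => hQ (MulAction.injective (g : G) (e.trans hgP.symm)))
    refine ⟨⟨u, hu⟩, ?_⟩
    rw [QuotientGroup.eq]
    show ((u : G))⁻¹ * (g : G) ∈ C
    refine hKerC ?_
    rw [hKer, MonoidHom.mem_ker]
    set w : G := ((u : G))⁻¹ * (g : G) with hw
    have hwP : w • P = P := by
      rw [hw, mul_smul, hgP]
      exact inv_smul_eq_iff.2 (mem_stabilizer_iff.1 (hPK u hu)).symm
    have hwQ : w • Q = Q := by
      rw [hw, mul_smul, ← huQ, ← hLact]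
      exact inv_smul_smul _ _
    have hwc : ∀ z ∈ (P : Subgroup L), w * (z : G) = (z : G) * w := by
      intro z hz
      have h1 := congrArg (fun f : MulAut (P : Subgroup L) => ((f ⟨z, hz⟩ : L) : G))
        (MonoidHom.mem_ker.1 hg)
      change ((conjL (g : G) z : L) : G) = (z : G) at h1
      rw [MulAut.conjNormal_apply] at h1
      have h2 := congrArg (fun v : (P : Subgroup L) => ((v : L) : G)) (cyc_comm ⟨u, hu⟩ ⟨z, hz⟩)
      simp only [Subgroup.coe_mul] at h2
      have h3 : ((u : G))⁻¹ * (z : G) = (z : G) * ((u : G))⁻¹ := by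
        calc ((u : G))⁻¹ * (z : G) = ((u : G))⁻¹ * ((z : G) * u) * ((u : G))⁻¹ := by group
          _ = (z : G) * ((u : G))⁻¹ := by rw [← h2]; group
      calc w * (z : G) = ((u : G))⁻¹ * ((g : G) * z * (g : G)⁻¹) * g := by rw [hw]; group
        _ = ((u : G))⁻¹ * (z : G) * g := by rw [h1]
        _ = (z : G) * w := by rw [h3, hw]; group
    refine Equiv.ext fun Q' => ?_
    show w • Q' = Q'
    rcases eq_or_ne Q' P with rfl | hQ'
    · exact hwP
    obtain ⟨z, hz, rfl⟩ := horb Q' hQ'
    rw [← hLact, ← mul_smul, hwc z hz, mul_smul, hwQ]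
  -- `G / C` is `M / RM`
  let τ : M →* G ⧸ C := (QuotientGroup.mk' C).comp M.subtype
  have hτker : τ.ker = RM := by
    ext x
    rw [MonoidHom.mem_ker, ← hCRM]
    exact QuotientGroup.eq_one_iff _
  let τ' : M ⧸ RM →* G ⧸ C := QuotientGroup.lift RM τ hτker.ge
  have hτ'inj : Function.Injective τ' := by
    rw [← MonoidHom.ker_eq_bot_iff, eq_bot_iff]
    intro y hy
    obtain ⟨x, rfl⟩ := QuotientGroup.mk'_surjective RM y
    rw [Subgroup.mem_bot, ← MonoidHom.mem_ker, QuotientGroup.ker_mk', ← hτker]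
    exact hy
  have hcardeq : Nat.card (M ⧸ RM) = Nat.card (G ⧸ C) := by
    refine le_antisymm (Nat.card_le_card_of_injective τ' hτ'inj) ?_
    rw [hd.card, mul_assoc]
    exact hGC
  let eG : M ⧸ RM ≃* G ⧸ C := MulEquiv.ofBijective τ'
    ((Nat.bijective_iff_injective_and_card τ').2 ⟨hτ'inj, hcardeq⟩)
  have hGCp : IsPGLp (G ⧸ C) := IsPGLp.of_equiv eG ⟨p, hp, hp3, hd, hFd⟩
  by_cases hCbot : C = ⊥
  · exact IsPGLp.of_equiv ((QuotientGroup.quotientMulEquivOfEq hCbot).trans QuotientGroup.quotientBot) hGCp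
  exfalso
  have hCns : ¬ Group.IsSolvable C := fun hs => hCbot (hss C hCn hs)
  have hGL : Nat.card (G ⧸ L) < n := by
    rw [← hn, Subgroup.card_eq_card_quotient_mul_card_subgroup L]
    haveI : Nontrivial L := (Subgroup.nontrivial_iff_ne_bot L).2 hLne
    exact lt_mul_of_one_lt_right Nat.card_pos Finite.one_lt_card
  let πL := QuotientGroup.mk' L
  have hCinj : ∀ x ∈ C, πL x = 1 → x = 1 := fun x hx h1 => hLC x ((QuotientGroup.eq_one_iff x).1 h1) hx
  have hGLns : ¬ Group.IsSolvable (G ⧸ L) := fun hs => hCns (by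
    haveI := hs
    refine Group.isSolvable_of_isSolvable_injective (f := πL.comp C.subtype) ?_
    exact (injective_iff_map_eq_one _).2 fun x hx => Subtype.ext (hCinj x x.2 hx))
  obtain ⟨R2, hR2n, hR2s, -, q, hq, hq3, hd2, -⟩ :=
    ih' (G ⧸ L) _ _ hGL hGLns (h.map πL (QuotientGroup.mk'_surjective L))
  let φ₁ := QuotientGroup.mk' C
  let φ₂ : G →* (G ⧸ L) ⧸ R2 := (QuotientGroup.mk' R2).comp πL
  have hφ₂ : Function.Surjective φ₂ :=
    (QuotientGroup.mk'_surjective R2).comp (QuotientGroup.mk'_surjective L)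
  have hCker2 : C ⊓ φ₂.ker = ⊥ := by
    refine hss _ inferInstance ?_
    haveI := hR2s
    let f : (C ⊓ φ₂.ker : Subgroup G) →* R2 :=
      { toFun := fun x => ⟨πL x, (QuotientGroup.eq_one_iff _).1 (MonoidHom.mem_ker.1 x.2.2)⟩
        map_one' := Subtype.ext (map_one πL)
        map_mul' := fun x y => Subtype.ext (map_mul πL _ _) }
    exact Group.isSolvable_of_isSolvable_injective (f := f) ((injective_iff_map_eq_one f).2 fun x hx =>
      Subtype.ext (hCinj x x.2.1 (congrArg Subtype.val hx)))
  have hinj : ∀ x, φ₁ x = 1 → φ₂ x = 1 → x = 1 := fun x h1 h2 => by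
    rw [← Subgroup.mem_bot, ← hCker2]
    exact ⟨(QuotientGroup.eq_one_iff x).1 h1, h2⟩
  have hd1 : Data (G ⧸ C) p := hd.of_equiv eG
  refine no_two hd1 hd2 hp hq hp3 hq3 h φ₁ (QuotientGroup.mk'_surjective C) φ₂ hφ₂ hinj ?_
  obtain ⟨L₂, -, -, hL₂c, hL₂min, -⟩ := hd2.low
  have himg : L₂ ≤ C.map φ₂ := by
    refine hL₂min _ (hCn.map φ₂ hφ₂) fun e => hCbot (eq_bot_iff.2 fun x hx => ?_)
    have h1 : φ₂ x ∈ C.map φ₂ := ⟨x, hx, rfl⟩
    rw [e, Subgroup.mem_bot] at h1
    rw [← hCker2]
    exact ⟨hx, h1⟩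
  have hCc : Nat.card (C.map φ₂) ≤ Nat.card C :=
    Nat.card_le_card_of_surjective _ (φ₂.subgroupMap_surjective C)
  rw [Subgroup.card_eq_card_quotient_mul_card_subgroup C]
  calc Nat.card (G ⧸ C) * Nat.card ((G ⧸ L) ⧸ R2) ≤ Nat.card (G ⧸ C) * (2 * Nat.card C) :=
        Nat.mul_le_mul_left _ (hL₂c.trans (Nat.mul_le_mul_left 2 ((Subgroup.card_le_of_le himg).trans hCc)))
    _ = 2 * (Nat.card (G ⧸ C) * Nat.card C) := by ring

/-- The theorem for the quotient by the solvable radical. -/
theorem quotient_isPGLp {G : Type u} [Group G] [Finite G] (hns : ¬ Group.IsSolvable G)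
    {A B : Subgroup G} (h : Fz A B) (R : Subgroup G) [R.Normal] (hR : Group.IsSolvable R)
    (hmax : ∀ N : Subgroup G, N.Normal → Group.IsSolvable N → N ≤ R) : IsPGLp (G ⧸ R) := by
  refine main _ (G ⧸ R) _ _ rfl (fun hq => hns ?_) (h.map _ (QuotientGroup.mk'_surjective R))
    (semiSimple_quotient hR hmax)
  haveI := hR; haveI := hq
  exact Group.isSolvable_of_ker_le_range R.subtype (QuotientGroup.mk' R)
    (by rw [QuotientGroup.ker_mk', Subgroup.range_subtype])

end Cfsg.Agent.CZFact
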